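import Mathlib.AlgebraicGeometry.AffineSpace
import Mathlib.Algebra.MvPolynomial.Nilpotent

/-!
Units on affine space over a reduced scheme come from the base.
-/

universe u

open CategoryTheory AlgebraicGeometry Limits

namespace Groth.Agent.GaDual

lemma exists_eq_appTop_of_isUnit_affine (n : Type u) (S : Scheme.{u}) [IsAffine S] [IsReduced S]
    (w : Γ(𝔸(n; S), ⊤)) (hw : IsUnit w) :
    ∃ r : Γ(S, ⊤), (𝔸(n; S) ↘ S).appTop r = w := by
  set e := AffineSpace.isoOfIsAffine n S
  set g := (Scheme.ΓSpecIso (.of (MvPolynomial n Γ(S, ⊤)))).hom (e.inv.appTop w)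
  have hg : IsUnit g := (hw.map e.inv.appTop.hom).map (Scheme.ΓSpecIso _).hom.hom
  obtain ⟨-, h2⟩ := MvPolynomial.isUnit_iff.mp hg
  have hC : g = MvPolynomial.C (MvPolynomial.coeff 0 g) := by
    classical
    ext i
    rw [MvPolynomial.coeff_C]
    split_ifs with h
    · rw [h]
    · exact (h2 i (Ne.symm h)).eq_zero
  refine ⟨MvPolynomial.coeff 0 g, ?_⟩
  have : e.hom.appTop (e.inv.appTop w) = w := by
    rw [← CommRingCat.comp_apply, ← Scheme.Hom.comp_appTop, e.hom_inv_id]
    simp
  conv_rhs => rw [← this, AffineSpace.isoOfIsAffine_hom_appTop]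
  change _ = MvPolynomial.eval₂Hom _ _ g
  conv_rhs => rw [hC, MvPolynomial.eval₂Hom_C]

/-- The zero section of affine space. -/
noncomputable def zeroSection (n : Type u) (X : Scheme.{u}) : X ⟶ 𝔸(n; X) :=
  AffineSpace.homOfVector (𝟙 X) 0

lemma zeroSection_over (n : Type u) (X : Scheme.{u}) :
    zeroSection n X ≫ 𝔸(n; X) ↘ X = 𝟙 X := AffineSpace.homOfVector_over _ _

lemma zeroSection_naturality (n : Type u) {U X : Scheme.{u}} (j : U ⟶ X) :
    j ≫ zeroSection n X = zeroSection n U ≫ AffineSpace.map n j := by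
  refine AffineSpace.hom_ext ?_ fun i => ?_
  · simp [zeroSection]
  · simp only [zeroSection, Scheme.Hom.comp_appTop, CommRingCat.comp_apply]
    erw [AffineSpace.homOfVector_appTop_coord, AffineSpace.map_appTop_coord,
      AffineSpace.homOfVector_appTop_coord]
    simp

theorem appTop_zeroSection_of_isUnit (n : Type u) (X : Scheme.{u}) [IsReduced X]
    (w : Γ(𝔸(n; X), ⊤)) (hw : IsUnit w) :
    (𝔸(n; X) ↘ X).appTop ((zeroSection n X).appTop w) = w := by
  rw [← sub_eq_zero]
  refine Scheme.zero_of_zero_cover _ (X.affineCover.pullback₁ (𝔸(n; X) ↘ X)) fun i => ?_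
  have : IsOpenImmersion (X.affineCover.f i) := X.affineCover.map_prop i
  have : IsReduced (X.affineCover.X i) := isReduced_of_isOpenImmersion (X.affineCover.f i)
  have : IsAffine (X.affineCover.X i) := isAffine_Spec _
  set j := X.affineCover.f i
  have hp := AffineSpace.isPullback_map (n := n) j
  have key : (AffineSpace.map n j).appTop
      ((𝔸(n; X) ↘ X).appTop ((zeroSection n X).appTop w) - w) = 0 := by
    rw [map_sub, sub_eq_zero]
    obtain ⟨r, hr⟩ := exists_eq_appTop_of_isUnit_affine n (X.affineCover.X i)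
      ((AffineSpace.map n j).appTop w) (hw.map (AffineSpace.map n j).appTop.hom)
    simp only [← CommRingCat.comp_apply, ← Scheme.Hom.comp_appTop]
    have e1 : AffineSpace.map n j ≫ (𝔸(n; X) ↘ X) ≫ zeroSection n X =
        ((𝔸(n; X.affineCover.X i) ↘ X.affineCover.X i) ≫ zeroSection n _) ≫ AffineSpace.map n j := by
      rw [AffineSpace.map_over_assoc, Category.assoc, zeroSection_naturality]
    rw [e1, Scheme.Hom.comp_appTop, CommRingCat.comp_apply, ← hr, ← CommRingCat.comp_apply,
      ← Scheme.Hom.comp_appTop, Category.assoc, zeroSection_over, Category.comp_id]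
  have hfst : (X.affineCover.pullback₁ (𝔸(n; X) ↘ X)).f i =
      hp.isoPullback.inv ≫ AffineSpace.map n j := (hp.isoPullback_inv_fst).symm
  rw [hfst]
  change (hp.isoPullback.inv ≫ AffineSpace.map n j).appTop _ = 0
  rw [Scheme.Hom.comp_appTop, CommRingCat.comp_apply, key, map_zero]

end Groth.Agent.GaDual
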