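import Groth.Agent.Lib.GaDual.Coeff
import Mathlib.RingTheory.MvPolynomial.Basic
import Mathlib.Algebra.Polynomial.BigOperators
import Mathlib.RingTheory.PowerSeries.Exp
import Mathlib.Data.Nat.Prime.Factorial
import Mathlib.Data.Nat.Choose.Cast
import Mathlib.Tactic.LinearCombination
import Mathlib.Tactic.FieldSimp
import Mathlib.Algebra.GroupWithZero.Units.Basic

/-!
Characters of the additive group: truncated exponentials.
-/

universe u

open Finset

namespace Groth.Agent.GaDual

variable {R : Type u} [CommRing R]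

/-- f(X+Y) = f(X) f(Y). -/
def IsChar (f : Polynomial R) : Prop :=
  Polynomial.aeval (MvPolynomial.X 0 + MvPolynomial.X 1 : MvPolynomial (Fin 2) R) f =
    Polynomial.aeval (MvPolynomial.X 0 : MvPolynomial (Fin 2) R) f *
      Polynomial.aeval (MvPolynomial.X 1 : MvPolynomial (Fin 2) R) f

variable (p : ℕ)

/-- exp_p(aX). -/
noncomputable def expTrunc (a : R) : Polynomial R :=
  ∑ j ∈ range p, Polynomial.C (Ring.inverse (j.factorial : R) * a ^ j) * Polynomial.X ^ j

/-- exp_p(aX^(p^k)). -/
noncomputable def expP (a : R) (k : ℕ) : Polynomial R :=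
  ∑ j ∈ range p, Polynomial.C (Ring.inverse (j.factorial : R) * a ^ j) * Polynomial.X ^ (j * p ^ k)

/-- The product of exp_p(a_i X^(p^i)), i < n. -/
noncomputable def chrProd (a : ℕ → R) (n : ℕ) : Polynomial R := ∏ i ∈ range n, expP p (a i) i

lemma coeff_expTrunc (a : R) (j : ℕ) :
    (expTrunc p a).coeff j = if j < p then Ring.inverse (j.factorial : R) * a ^ j else 0 := by
  simp only [expTrunc, Polynomial.finsetSum_coeff, Polynomial.coeff_C_mul, Polynomial.coeff_X_pow,
    mul_ite, mul_one, mul_zero, Finset.sum_ite_eq, Finset.mem_range]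

variable [hp : Fact p.Prime] [CharP R p]

lemma isUnit_factorial {j : ℕ} (hj : j < p) : IsUnit (j.factorial : R) :=
  isUnit_natCast_of_not_dvd p fun h => by
    have := (Nat.Prime.dvd_factorial hp.out).1 h
    omega

lemma choose_mul_inv_factorial {i j : ℕ} (h : i + j < p) :
    ((i + j).choose i : R) * Ring.inverse ((i + j).factorial : R) =
      Ring.inverse (i.factorial : R) * Ring.inverse (j.factorial : R) := by
  have hfac : ((i + j).choose i : R) * (i.factorial : R) * (j.factorial : R) =
      ((i + j).factorial : R) := by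
    rw [← Nat.choose_mul_factorial_mul_factorial (show i ≤ i + j by omega), Nat.add_sub_cancel_left]
    push_cast; rfl
  have hi := Ring.mul_inverse_cancel _ (isUnit_factorial (R := R) p (show i < p by omega))
  have hj := Ring.mul_inverse_cancel _ (isUnit_factorial (R := R) p (show j < p by omega))
  have hij := Ring.mul_inverse_cancel _ (isUnit_factorial (R := R) p h)
  linear_combination (Ring.inverse (i.factorial : R) * Ring.inverse (j.factorial : R)) * hij
      - (((i + j).choose i : R) * Ring.inverse ((i + j).factorial : R)) * hi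
      - (((i + j).choose i : R) * (i.factorial : R) * Ring.inverse ((i + j).factorial : R) *
          Ring.inverse (i.factorial : R)) * hj
      + (Ring.inverse (i.factorial : R) * Ring.inverse (j.factorial : R) *
          Ring.inverse ((i + j).factorial : R)) * hfac

lemma expTrunc_isChar {a : R} (ha : a ^ p = 0) : IsChar (expTrunc p a) := by
  rw [IsChar, isCharacter_iff_coeff]
  intro i j
  simp only [coeff_expTrunc]
  by_cases h : i + j < p
  · rw [if_pos h, if_pos (by omega), if_pos (by omega)]
    have key := choose_mul_inv_factorial (R := R) p h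
    rw [← mul_assoc, key, pow_add]
    ring
  · rw [if_neg h, mul_zero]
    have hzero : a ^ (i + j) = 0 := pow_eq_zero_of_le (by omega) ha
    split_ifs <;> try simp only [mul_zero, zero_mul]
    rw [mul_mul_mul_comm, ← pow_add, hzero, mul_zero]

omit hp [CharP R p] in
lemma IsChar.mul {f g : Polynomial R} (hf : IsChar f) (hg : IsChar g) : IsChar (f * g) := by
  simp only [IsChar, map_mul] at *
  rw [hf, hg, mul_mul_mul_comm]

omit hp [CharP R p] in
lemma aeval_expP {S : Type u} [CommRing S] [Algebra R S] (a : R) (k : ℕ) (t : S) :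
    Polynomial.aeval t (expP p a k) = Polynomial.aeval (t ^ p ^ k) (expTrunc p a) := by
  simp [expP, expTrunc, ← pow_mul, mul_comm (p ^ k)]

lemma expP_isChar {a : R} (ha : a ^ p = 0) (k : ℕ) : IsChar (expP p a k) := by
  have := congrArg (MvPolynomial.aeval
    ![(MvPolynomial.X 0 : MvPolynomial (Fin 2) R) ^ p ^ k, MvPolynomial.X 1 ^ p ^ k])
    (expTrunc_isChar p ha)
  simp only [map_mul, ← Polynomial.aeval_algHom_apply, map_add, MvPolynomial.aeval_X,
    Matrix.cons_val_zero, Matrix.cons_val_one] at this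
  simp only [IsChar, aeval_expP, add_pow_char_pow]
  exact this

lemma chrProd_isChar {a : ℕ → R} (ha : ∀ i, a i ^ p = 0) (n : ℕ) : IsChar (chrProd p a n) :=
  Finset.prod_induction _ IsChar (fun _ _ => IsChar.mul) (by simp [IsChar]) fun i _ =>
    expP_isChar p (ha i) i

omit [CharP R p] in
lemma natDegree_chrProd_lt (a : ℕ → R) : ∀ n, (chrProd p a n).natDegree < p ^ n
  | 0 => by simp [chrProd]
  | n + 1 => by
    have ih := natDegree_chrProd_lt a n
    rw [chrProd, prod_range_succ]
    refine lt_of_le_of_lt Polynomial.natDegree_mul_le ?_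
    have h2 : (expP p (a n) n).natDegree ≤ (p - 1) * p ^ n :=
      Polynomial.natDegree_sum_le_of_forall_le _ _ fun j hj =>
        (Polynomial.natDegree_C_mul_X_pow_le _ _).trans
          (Nat.mul_le_mul_right _ (by rw [mem_range] at hj; omega))
    have h3 : (p - 1) * p ^ n + p ^ n = p ^ (n + 1) := by
      rw [← Nat.succ_mul, Nat.succ_eq_add_one, Nat.sub_add_cancel hp.out.one_le, pow_succ']
    show (chrProd p a n).natDegree + _ < _
    omega

omit [CharP R p] in
lemma coeff_chrProd_succ (a : ℕ → R) (n q r : ℕ) (hq : q < p) (hr : r < p ^ n) :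
    (chrProd p a (n + 1)).coeff (q * p ^ n + r) =
      Ring.inverse (q.factorial : R) * a n ^ q * (chrProd p a n).coeff r := by
  have hP : 0 < p ^ n := pow_pos hp.out.pos n
  rw [chrProd, prod_range_succ, expP, mul_sum, Polynomial.finsetSum_coeff, sum_eq_single q]
  · rw [mul_left_comm, Polynomial.coeff_C_mul, Polynomial.coeff_mul_X_pow', if_pos (by omega),
      Nat.add_sub_cancel_left]
    rfl
  · intro j hj hjq
    rw [mem_range] at hj
    rw [mul_left_comm, Polynomial.coeff_C_mul, Polynomial.coeff_mul_X_pow']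
    split_ifs with h
    · have hdeg := natDegree_chrProd_lt p a n
      have : j < q := by
        rcases Nat.lt_or_gt_of_ne hjq with h' | h'
        · exact h'
        · have : (q + 1) * p ^ n ≤ j * p ^ n := Nat.mul_le_mul_right _ h'
          rw [add_mul, one_mul] at this; omega
      have hle : (j + 1) * p ^ n ≤ q * p ^ n := Nat.mul_le_mul_right _ this
      rw [add_mul, one_mul] at hle
      show _ * (chrProd p a n).coeff _ = 0
      rw [Polynomial.coeff_eq_zero_of_natDegree_lt (by omega), mul_zero]
    · rw [mul_zero]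
  · intro h; simp at h; omega

theorem coeff_eq_of_rel (c : ℕ → R) (h0 : c 0 = 1) : ∀ n,
    (∀ i j, i < p ^ n → j < p ^ n → ((i + j).choose i : R) * c (i + j) = c i * c j) →
    (∀ k, k < p ^ n → c k = (chrProd p (fun i => c (p ^ i)) n).coeff k) ∧
      ∀ i, i < n → c (p ^ i) ^ p = 0
  | 0, _ => ⟨fun k hk => by simp at hk; simp [hk, h0, chrProd], fun i hi => absurd hi (by omega)⟩
  | n + 1, hrel => by
    have hmono : p ^ n ≤ p ^ (n + 1) := Nat.pow_le_pow_right hp.out.pos (by omega)
    obtain ⟨ih1, ih2⟩ := coeff_eq_of_rel c h0 n fun i j hi hj => hrel i j (by omega) (by omega)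
    have hP : 0 < p ^ n := pow_pos hp.out.pos n
    have hlt : ∀ q, q < p → q * p ^ n + p ^ n ≤ p ^ (n + 1) := fun q hq => by
      rw [← Nat.succ_mul, pow_succ']; exact Nat.mul_le_mul_right _ hq
    have hstep : ∀ q, q < p → c (q * p ^ n) * c (p ^ n) = ((q + 1 : ℕ) : R) * c ((q + 1) * p ^ n) := by
      intro q hq
      have := hlt q hq
      rw [mul_comm (c _), ← hrel (p ^ n) (q * p ^ n) (by have := hlt 1 hp.out.one_lt; omega) (by omega),
        show p ^ n + q * p ^ n = (q + 1) * p ^ n by ring, cast_choose_pow p n (q + 1)]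
    have hq : ∀ q, q < p → c (q * p ^ n) = Ring.inverse (q.factorial : R) * c (p ^ n) ^ q := by
      intro q
      induction q with
      | zero => intro _; simp [h0]
      | succ q ih =>
        intro hq
        have hu : IsUnit ((q + 1 : ℕ) : R) := isUnit_natCast_of_not_dvd p fun h => by
          have := Nat.le_of_dvd (by omega) h; omega
        refine hu.mul_left_cancel ?_
        rw [← hstep q (by omega), ih (by omega), mul_assoc (Ring.inverse _), ← pow_succ,
          Nat.factorial_succ, Nat.cast_mul, Ring.mul_inverse_rev, ← mul_assoc, ← mul_assoc,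
          mul_comm ((q + 1 : ℕ) : R) (Ring.inverse _), mul_assoc (Ring.inverse ((q.factorial : ℕ) : R)),
          Ring.mul_inverse_cancel _ hu, mul_one]
    refine ⟨fun k hk => ?_, fun i hi => ?_⟩
    · obtain ⟨q, r, hq', hr, rfl⟩ : ∃ q r, q < p ∧ r < p ^ n ∧ k = q * p ^ n + r :=
        ⟨k / p ^ n, k % p ^ n, (Nat.div_lt_iff_lt_mul hP).2 (by rwa [← pow_succ']), Nat.mod_lt _ hP,
          (Nat.div_add_mod' k (p ^ n)).symm⟩
      rw [coeff_chrProd_succ p _ n q r hq' hr, ← ih1 r hr, ← hq q hq']
      have := hlt q hq'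
      rw [mul_comm (c _), ← hrel r (q * p ^ n) (by omega) (by omega), add_comm r,
        cast_choose_self_add p n q r hr, one_mul]
    · rcases Nat.lt_or_ge i n with h | h
      · exact ih2 i h
      obtain rfl : i = n := by omega
      have hp1 : p - 1 < p := Nat.sub_lt hp.out.pos one_pos
      have hs := hstep (p - 1) hp1
      rw [Nat.sub_add_cancel hp.out.one_le, CharP.cast_eq_zero, zero_mul, hq _ hp1, mul_assoc,
        ← pow_succ, Nat.sub_add_cancel hp.out.one_le] at hs
      exact ((isUnit_factorial (R := R) p hp1).ringInverse.mul_right_eq_zero).1 hs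

theorem eq_chrProd_of_rel (f : Polynomial R) (n : ℕ) (hdeg : f.natDegree < p ^ n)
    (h0 : f.coeff 0 = 1)
    (hrel : ∀ i j, i < p ^ n → j < p ^ n →
      ((i + j).choose i : R) * f.coeff (i + j) = f.coeff i * f.coeff j) :
    ∃ a : ℕ → R, (∀ i, a i ^ p = 0) ∧ f = chrProd p a n := by
  obtain ⟨h1, h2⟩ := coeff_eq_of_rel p (fun k => f.coeff k) h0 n hrel
  refine ⟨fun i => if i < n then f.coeff (p ^ i) else 0, fun i => ?_, ?_⟩
  · simp only
    split_ifs with hi
    · exact h2 i hi
    · rw [zero_pow hp.out.ne_zero]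
  · have : chrProd p (fun i => if i < n then f.coeff (p ^ i) else 0) n =
        chrProd p (fun i => f.coeff (p ^ i)) n :=
      prod_congr rfl fun i hi => by rw [mem_range] at hi; simp [hi]
    rw [this]
    ext k
    rcases Nat.lt_or_ge k (p ^ n) with h | h
    · exact h1 k h
    · rw [Polynomial.coeff_eq_zero_of_natDegree_lt (by omega),
        Polynomial.coeff_eq_zero_of_natDegree_lt
          (lt_of_lt_of_le (natDegree_chrProd_lt p _ n) h)]

theorem polyCharacter_iff (f : Polynomial R) :
    (f.eval 0 = 1 ∧ IsChar f) ↔ ∃ (N : ℕ) (a : ℕ → R), (∀ n, a n ^ p = 0) ∧ f = chrProd p a N := by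
  constructor
  · rintro ⟨h0, h⟩
    rw [← Polynomial.coeff_zero_eq_eval_zero] at h0
    have hlt : f.natDegree < p ^ f.natDegree := Nat.lt_pow_self hp.out.one_lt
    obtain ⟨a, ha, hfa⟩ := eq_chrProd_of_rel p f _ hlt h0 fun i j _ _ =>
      (isCharacter_iff_coeff f).1 h i j
    exact ⟨_, a, ha, hfa⟩
  · rintro ⟨N, a, ha, rfl⟩
    refine ⟨?_, chrProd_isChar p ha N⟩
    simp only [chrProd, Polynomial.eval_prod, expP, Polynomial.eval_finsetSum, Polynomial.eval_mul,
      Polynomial.eval_C, Polynomial.eval_pow, Polynomial.eval_X]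
    refine prod_eq_one fun i _ => ?_
    rw [sum_eq_single 0]
    · simp
    · intro j _ hj; rw [zero_pow (Nat.mul_ne_zero hj (pow_ne_zero i hp.out.ne_zero)), mul_zero]
    · intro h; simp [hp.out.pos] at h

theorem formalCharacter_iff (χ : PowerSeries R) :
    (PowerSeries.constantCoeff χ = 1 ∧ ∀ i j, ((i + j).choose i : R) * PowerSeries.coeff (i + j) χ =
        PowerSeries.coeff i χ * PowerSeries.coeff j χ) ↔
      ∃ a : ℕ → R, (∀ n, a n ^ p = 0) ∧ ∀ m : ℕ, PowerSeries.trunc (p ^ m) χ = chrProd p a m := by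
  constructor
  · rintro ⟨h0, h⟩
    rw [← PowerSeries.coeff_zero_eq_constantCoeff_apply] at h0
    refine ⟨fun i => PowerSeries.coeff (p ^ i) χ,
      fun i => (coeff_eq_of_rel p (fun k => PowerSeries.coeff k χ) h0 (i + 1)
        fun a b _ _ => h a b).2 i (by omega), fun m => ?_⟩
    ext k
    rw [PowerSeries.coeff_trunc]
    split_ifs with hk
    · exact (coeff_eq_of_rel p (fun k => PowerSeries.coeff k χ) h0 m fun a b _ _ => h a b).1 k hk
    · rw [Polynomial.coeff_eq_zero_of_natDegree_lt
        (lt_of_lt_of_le (natDegree_chrProd_lt p _ m) (by omega))]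
  · rintro ⟨a, ha, h⟩
    have hk : ∀ k m, k < p ^ m → PowerSeries.coeff k χ = (chrProd p a m).coeff k := fun k m hkm => by
      rw [← h m, PowerSeries.coeff_trunc, if_pos hkm]
    refine ⟨?_, fun i j => ?_⟩
    · rw [← PowerSeries.coeff_zero_eq_constantCoeff_apply, hk 0 0 (by simp)]
      simp [chrProd]
    · have hlt : i + j < p ^ (i + j) := Nat.lt_pow_self hp.out.one_lt
      rw [hk (i + j) (i + j) hlt, hk i (i + j) (by omega), hk j (i + j) (by omega)]
      exact (isCharacter_iff_coeff _).1 (chrProd_isChar p ha _) i j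

omit hp [CharP R p] in
lemma mem_span_pow_coeff {N : ℕ} {x : MvPolynomial (Fin 2) R}
    (hx : x ∈ Ideal.span {(MvPolynomial.X 0 ^ N : MvPolynomial (Fin 2) R), MvPolynomial.X 1 ^ N})
    (i j : ℕ) (hi : i < N) (hj : j < N) : MvPolynomial.coeff (sgl i j) x = 0 := by
  obtain ⟨u, v, rfl⟩ := Ideal.mem_span_pair.1 hx
  classical
  rw [MvPolynomial.coeff_add, MvPolynomial.X_pow_eq_monomial, MvPolynomial.X_pow_eq_monomial,
    MvPolynomial.coeff_mul_monomial', MvPolynomial.coeff_mul_monomial', if_neg, if_neg, add_zero]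
  · intro h; have := h 1; simp [sgl] at this; omega
  · intro h; have := h 0; simp [sgl] at this; omega

end Groth.Agent.GaDual

namespace Groth.Agent.GaDual

variable {A : Type u} [CommRing A] [Algebra ℚ A]

/-- The coefficients a^n/n! of exp(aX). -/
lemma coeff_rescale_exp (a : A) (n : ℕ) :
    PowerSeries.coeff n (PowerSeries.rescale a (PowerSeries.exp A)) =
      a ^ n * algebraMap ℚ A (1 / n.factorial) := by
  rw [PowerSeries.coeff_rescale, PowerSeries.coeff_exp]

theorem ratCharacter_iff (c : ℕ → A) :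
    (c 0 = 1 ∧ ∀ i j, ((i + j).choose i : A) * c (i + j) = c i * c j) ↔
      ∀ n, c n = c 1 ^ n * algebraMap ℚ A (1 / n.factorial) := by
  constructor
  · rintro ⟨h0, h⟩ n
    induction n with
    | zero => simp [h0]
    | succ n ih =>
      have h1 := h n 1
      rw [Nat.choose_succ_self_right, ih] at h1
      rw [show c (n + 1) = algebraMap ℚ A (1 / (n + 1 : ℕ)) * (((n + 1 : ℕ) : A) * c (n + 1)) by
        rw [← mul_assoc, ← map_natCast (algebraMap ℚ A) (n + 1), ← map_mul,
          one_div_mul_cancel (Nat.cast_ne_zero.2 (by omega)), map_one, one_mul], h1]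
      rw [mul_comm, pow_succ, mul_assoc (c 1 ^ n), mul_comm (algebraMap ℚ A (1 / (n.factorial : ℚ))),
        ← mul_assoc, mul_assoc (c 1 ^ n * c 1), ← map_mul]
      congr 2
      rw [Nat.factorial_succ]; push_cast; field_simp
  · intro h
    refine ⟨by rw [h 0]; simp, fun i j => ?_⟩
    have key : algebraMap ℚ A ((i + j).choose i) * algebraMap ℚ A (1 / (i + j).factorial) =
        algebraMap ℚ A (1 / i.factorial) * algebraMap ℚ A (1 / j.factorial) := by
      rw [← map_mul, ← map_mul, Nat.cast_choose ℚ (show i ≤ i + j by omega), Nat.add_sub_cancel_left]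
      congr 1
      field_simp
    rw [h (i + j), h i, h j, ← map_natCast (algebraMap ℚ A), pow_add]
    linear_combination (c 1 ^ i * c 1 ^ j) * key

end Groth.Agent.GaDual
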