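import Mathlib.Algebra.MvPolynomial.Basic
import Mathlib.Algebra.MvPolynomial.Eval
import Mathlib.RingTheory.PowerSeries.Substitution
import Mathlib.Data.Nat.Choose.Lucas
import Mathlib.Algebra.CharP.Lemmas
import Mathlib.Algebra.Field.ZMod
import Mathlib.Algebra.Polynomial.AlgebraMap

/-!
Coefficients of f(X + Y), f(X) g(Y) and binomial congruences.
-/

universe u

open Finset

namespace Groth.Agent.GaDual

/-- The exponent (i, j). -/
noncomputable def sgl (i j : ℕ) : Fin 2 →₀ ℕ := Finsupp.single 0 i + Finsupp.single 1 j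

lemma sgl_zero_apply (i j : ℕ) : sgl i j 0 = i := by simp [sgl]

lemma sgl_one_apply (i j : ℕ) : sgl i j 1 = j := by simp [sgl]

lemma sgl_self (s : Fin 2 →₀ ℕ) : sgl (s 0) (s 1) = s := by
  ext a; fin_cases a <;> simp [sgl]

lemma sgl_eq_sgl {i j k l : ℕ} : sgl i j = sgl k l ↔ i = k ∧ j = l := by
  refine ⟨fun h => ?_, fun ⟨h, h'⟩ => by rw [h, h']⟩
  exact ⟨by simpa [sgl] using DFunLike.congr_fun h 0, by simpa [sgl] using DFunLike.congr_fun h 1⟩

variable {R : Type u} [CommRing R]

open MvPolynomial in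
lemma X_pow_mul_X_pow (i j : ℕ) :
    (X 0 ^ i * X 1 ^ j : MvPolynomial (Fin 2) R) = monomial (sgl i j) 1 := by
  rw [X_pow_eq_monomial, X_pow_eq_monomial, monomial_mul, one_mul, sgl]

open MvPolynomial in
lemma coeff_add_pow (n i j : ℕ) :
    coeff (sgl i j) ((X 0 + X 1 : MvPolynomial (Fin 2) R) ^ n) =
      if i + j = n then ((n.choose i : ℕ) : R) else 0 := by
  rw [add_pow, coeff_sum]
  simp only [X_pow_mul_X_pow, ← nsmul_eq_mul', coeff_smul, coeff_monomial, sgl_eq_sgl,
    smul_ite, smul_zero]
  split_ifs with h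
  · rw [sum_eq_single i, if_pos ⟨rfl, by omega⟩, nsmul_eq_mul, mul_one]
    · intro m _ hm; rw [if_neg fun h' => hm h'.1]
    · intro hi; simp at hi; omega
  · refine sum_eq_zero fun m hm => ?_
    rw [mem_range] at hm
    rw [if_neg fun h' => h (by omega)]

open MvPolynomial in
lemma coeff_aeval_add (f : Polynomial R) (i j : ℕ) :
    coeff (sgl i j) (Polynomial.aeval (X 0 + X 1 : MvPolynomial (Fin 2) R) f) =
      ((i + j).choose i : R) * f.coeff (i + j) := by
  induction f using Polynomial.induction_on' with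
  | add p q hp hq => rw [map_add, coeff_add, hp, hq, Polynomial.coeff_add, mul_add]
  | monomial n a =>
    rw [Polynomial.aeval_monomial, MvPolynomial.algebraMap_eq, coeff_C_mul, coeff_add_pow,
      Polynomial.coeff_monomial]
    by_cases h : i + j = n
    · rw [if_pos h, if_pos h.symm, h, mul_comm]
    · rw [if_neg h, if_neg (Ne.symm h), mul_zero, mul_zero]

open MvPolynomial in
lemma coeff_aeval_mul (f g : Polynomial R) (i j : ℕ) :
    coeff (sgl i j) (Polynomial.aeval (X 0 : MvPolynomial (Fin 2) R) f *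
      Polynomial.aeval (X 1 : MvPolynomial (Fin 2) R) g) = f.coeff i * g.coeff j := by
  induction f using Polynomial.induction_on' with
  | add p q hp hq => rw [map_add, add_mul, coeff_add, hp, hq, Polynomial.coeff_add, add_mul]
  | monomial n a =>
    induction g using Polynomial.induction_on' with
    | add p q hp hq => rw [map_add, mul_add, coeff_add, hp, hq, Polynomial.coeff_add, mul_add]
    | monomial m b =>
      rw [Polynomial.aeval_monomial, Polynomial.aeval_monomial, MvPolynomial.algebraMap_eq,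
        mul_mul_mul_comm, X_pow_mul_X_pow, ← map_mul, coeff_C_mul, coeff_monomial,
        Polynomial.coeff_monomial, Polynomial.coeff_monomial]
      simp only [sgl_eq_sgl]
      by_cases h : n = i <;> by_cases h' : m = j <;> simp [h, h']

open MvPolynomial in
lemma coeff_aeval_X0 (f : Polynomial R) (i j : ℕ) :
    coeff (sgl i j) (Polynomial.aeval (X 0 : MvPolynomial (Fin 2) R) f) =
      if j = 0 then f.coeff i else 0 := by
  have h := coeff_aeval_mul f 1 i j
  rw [map_one, mul_one, Polynomial.coeff_one] at h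
  rw [h, mul_ite, mul_one, mul_zero]

open MvPolynomial in
lemma coeff_aeval_X1 (f : Polynomial R) (i j : ℕ) :
    coeff (sgl i j) (Polynomial.aeval (X 1 : MvPolynomial (Fin 2) R) f) =
      if i = 0 then f.coeff j else 0 := by
  have h := coeff_aeval_mul 1 f i j
  rw [map_one, one_mul, Polynomial.coeff_one] at h
  rw [h, ite_mul, one_mul, zero_mul]

lemma isCharacter_iff_coeff (f : Polynomial R) :
    Polynomial.aeval (MvPolynomial.X 0 + MvPolynomial.X 1 : MvPolynomial (Fin 2) R) f =
      Polynomial.aeval (MvPolynomial.X 0 : MvPolynomial (Fin 2) R) f *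
        Polynomial.aeval (MvPolynomial.X 1 : MvPolynomial (Fin 2) R) f ↔
      ∀ i j, ((i + j).choose i : R) * f.coeff (i + j) = f.coeff i * f.coeff j := by
  refine ⟨fun h i j => ?_, fun h => MvPolynomial.ext _ _ fun s => ?_⟩
  · rw [← coeff_aeval_add, ← coeff_aeval_mul, h]
  · rw [← sgl_self s, coeff_aeval_add, coeff_aeval_mul, h]

section Series

lemma hasSubst_X (a : Fin 2) : PowerSeries.HasSubst (MvPowerSeries.X a : MvPowerSeries (Fin 2) R) :=
  PowerSeries.HasSubst.of_constantCoeff_zero (by simp)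

lemma hasSubst_add : PowerSeries.HasSubst
    (MvPowerSeries.X 0 + MvPowerSeries.X 1 : MvPowerSeries (Fin 2) R) :=
  PowerSeries.HasSubst.of_constantCoeff_zero (by simp)

lemma coeff_subst_add (χ : PowerSeries R) (i j : ℕ) :
    MvPowerSeries.coeff (sgl i j)
      (PowerSeries.subst (MvPowerSeries.X 0 + MvPowerSeries.X 1 : MvPowerSeries (Fin 2) R) χ) =
      ((i + j).choose i : R) * PowerSeries.coeff (i + j) χ := by
  have h : ∀ n, MvPowerSeries.coeff (sgl i j)
      ((MvPowerSeries.X 0 + MvPowerSeries.X 1 : MvPowerSeries (Fin 2) R) ^ n) =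
      if i + j = n then ((n.choose i : ℕ) : R) else 0 := fun n => by
    rw [← coeff_add_pow, ← MvPolynomial.coeff_coe, MvPolynomial.coe_pow, MvPolynomial.coe_add,
      MvPolynomial.coe_X, MvPolynomial.coe_X]
  rw [PowerSeries.coeff_subst hasSubst_add, finsum_eq_single _ (i + j)]
  · rw [h, if_pos rfl, smul_eq_mul, mul_comm]
  · intro n hn; rw [h, if_neg (Ne.symm hn), smul_zero]

lemma coeff_subst_X (χ : PowerSeries R) (a : Fin 2) (s : Fin 2 →₀ ℕ) :
    MvPowerSeries.coeff s (PowerSeries.subst (MvPowerSeries.X a : MvPowerSeries (Fin 2) R) χ) =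
      if s = Finsupp.single a (s a) then PowerSeries.coeff (s a) χ else 0 := by
  classical
  rw [PowerSeries.coeff_subst (hasSubst_X a), finsum_eq_single _ (s a)]
  · rw [MvPowerSeries.coeff_X_pow, smul_eq_mul, mul_ite, mul_one, mul_zero]
  · intro n hn
    rw [MvPowerSeries.coeff_X_pow, if_neg, smul_zero]
    rintro rfl
    simp at hn

lemma coeff_subst_mul (χ : PowerSeries R) (i j : ℕ) :
    MvPowerSeries.coeff (sgl i j)
      (PowerSeries.subst (MvPowerSeries.X 0 : MvPowerSeries (Fin 2) R) χ *
        PowerSeries.subst (MvPowerSeries.X 1 : MvPowerSeries (Fin 2) R) χ) =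
      PowerSeries.coeff i χ * PowerSeries.coeff j χ := by
  classical
  rw [MvPowerSeries.coeff_mul, sum_eq_single (Finsupp.single 0 i, Finsupp.single 1 j)]
  · simp [coeff_subst_X]
  · rintro ⟨s, t⟩ hst hne
    dsimp only
    rw [mem_antidiagonal] at hst
    rw [coeff_subst_X, coeff_subst_X]
    split_ifs with h h'
    · refine absurd ?_ hne
      have h0 := DFunLike.congr_fun hst 0
      have h1 := DFunLike.congr_fun hst 1
      have hs1 : s 1 = 0 := by rw [h]; simp
      have ht0 : t 0 = 0 := by rw [h']; simp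
      simp only [sgl, Finsupp.add_apply] at h0 h1
      rw [ht0] at h0; rw [hs1] at h1
      simp at h0 h1
      rw [h, h', h0, h1]
    all_goals simp
  · intro h
    exact absurd (by simp [mem_antidiagonal, sgl]) h

lemma isFormalCharacter_iff_coeff (χ : PowerSeries R) :
    PowerSeries.subst (MvPowerSeries.X 0 + MvPowerSeries.X 1 : MvPowerSeries (Fin 2) R) χ =
      PowerSeries.subst (MvPowerSeries.X 0 : MvPowerSeries (Fin 2) R) χ *
        PowerSeries.subst (MvPowerSeries.X 1 : MvPowerSeries (Fin 2) R) χ ↔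
      ∀ i j, ((i + j).choose i : R) * PowerSeries.coeff (i + j) χ =
        PowerSeries.coeff i χ * PowerSeries.coeff j χ := by
  refine ⟨fun h i j => ?_, fun h => MvPowerSeries.ext fun s => ?_⟩
  · rw [← coeff_subst_add, ← coeff_subst_mul, h]
  · rw [← sgl_self s, coeff_subst_add, coeff_subst_mul, h]

end Series

section Binomial

variable (p : ℕ) [Fact p.Prime]

lemma choose_split : ∀ (v q j r s : ℕ), r < p ^ v → s < p ^ v →
    (((q * p ^ v + r).choose (j * p ^ v + s) : ℕ) : ZMod p) =
      (q.choose j : ZMod p) * (r.choose s : ZMod p)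
  | 0, q, j, r, s, hr, hs => by
    obtain rfl : r = 0 := by simpa using hr
    obtain rfl : s = 0 := by simpa using hs
    simp
  | v + 1, q, j, r, s, hr, hs => by
    have hp : 0 < p := (Fact.out : p.Prime).pos
    have key : ∀ n k : ℕ, ((n.choose k : ℕ) : ZMod p) =
        ((n % p).choose (k % p) : ZMod p) * ((n / p).choose (k / p) : ZMod p) := fun n k => by
      rw [← Nat.cast_mul, ZMod.natCast_eq_natCast_iff]
      exact Choose.choose_modEq_choose_mod_mul_choose_div_nat
    have hdec : ∀ q r : ℕ, (q * p ^ (v + 1) + r) % p = r % p ∧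
        (q * p ^ (v + 1) + r) / p = q * p ^ v + r / p := fun q r => by
      rw [show q * p ^ (v + 1) + r = r + p * (q * p ^ v) by ring]
      exact ⟨Nat.add_mul_mod_self_left _ _ _, by rw [Nat.add_mul_div_left _ _ hp]; ring⟩
    rw [key, (hdec q r).1, (hdec q r).2, (hdec j s).1, (hdec j s).2,
      choose_split v q j (r / p) (s / p) (Nat.div_lt_iff_lt_mul hp |>.2 (by rwa [← pow_succ]))
        (Nat.div_lt_iff_lt_mul hp |>.2 (by rwa [← pow_succ])), key r s]
    ring

variable [CharP R p]

lemma natCast_eq_of_zmod {a b : ℕ} (h : (a : ZMod p) = b) : (a : R) = b := by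
  have := congrArg (ZMod.castHom (dvd_refl p) R) h
  simpa using this

lemma isUnit_natCast_of_not_dvd {l : ℕ} (h : ¬ p ∣ l) : IsUnit (l : R) := by
  have hne : (l : ZMod p) ≠ 0 := fun h' => h ((ZMod.natCast_eq_zero_iff l p).1 h')
  have := (IsUnit.mk0 _ hne).map (ZMod.castHom (dvd_refl p) R)
  simpa using this

lemma cast_choose_self_add (v q r : ℕ) (hr : r < p ^ v) :
    (((q * p ^ v + r).choose r : ℕ) : R) = 1 := by
  rw [← Nat.cast_one (R := R)]
  refine natCast_eq_of_zmod p ?_
  have := choose_split p v q 0 r r hr hr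
  simpa using this

lemma cast_choose_pow (v q : ℕ) : (((q * p ^ v).choose (p ^ v) : ℕ) : R) = q := by
  refine natCast_eq_of_zmod p ?_
  have h0 : 0 < p ^ v := pow_pos (Fact.out : p.Prime).pos v
  have := choose_split p v q 1 0 0 h0 h0
  simpa using this

end Binomial

end Groth.Agent.GaDual
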