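import Groth.Agent.Lib.GaDual.Coeff
import Mathlib.Tactic.LinearCombination
import Mathlib.Data.Nat.Choose.Dvd
import Mathlib.RingTheory.MvPolynomial.Basic
import Mathlib.NumberTheory.Padics.PadicVal.Basic

/-!
Lazard's lemma: symmetric polynomial 2-cocycles in characteristic p.
-/

universe u

open Finset MvPolynomial

namespace Groth.Agent.GaDual

variable {R : Type u} [CommRing R]

/-- The exponent (a, b, c). -/
noncomputable def sgl3 (a b c : ℕ) : Fin 3 →₀ ℕ :=
  Finsupp.single 0 a + Finsupp.single 1 b + Finsupp.single 2 c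

lemma sgl3_self (s : Fin 3 →₀ ℕ) : sgl3 (s 0) (s 1) (s 2) = s := by
  ext a; fin_cases a <;> simp [sgl3]

lemma sgl3_eq_sgl3 {a b c a' b' c' : ℕ} : sgl3 a b c = sgl3 a' b' c' ↔ a = a' ∧ b = b' ∧ c = c' := by
  refine ⟨fun h => ⟨?_, ?_, ?_⟩, fun ⟨h, h', h''⟩ => by rw [h, h', h'']⟩
  · simpa [sgl3] using DFunLike.congr_fun h 0
  · simpa [sgl3] using DFunLike.congr_fun h 1
  · simpa [sgl3] using DFunLike.congr_fun h 2

lemma X_pow3 (a b c : ℕ) :
    (X 0 ^ a * X 1 ^ b * X 2 ^ c : MvPolynomial (Fin 3) R) = monomial (sgl3 a b c) 1 := by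
  rw [X_pow_eq_monomial, X_pow_eq_monomial, X_pow_eq_monomial, monomial_mul, monomial_mul, one_mul,
    one_mul, sgl3]

lemma aeval_monomial_sgl {S : Type u} [CommRing S] [Algebra R S] (g : Fin 2 → S) (i j : ℕ) (r : R) :
    aeval g (monomial (sgl i j) r) = algebraMap R S r * (g 0 ^ i * g 1 ^ j) := by
  rw [← mul_one r, ← smul_eq_mul, ← smul_monomial, map_smul, ← X_pow_mul_X_pow, map_mul, map_pow,
    map_pow, aeval_X, aeval_X, Algebra.smul_def, smul_eq_mul, mul_one]

lemma coeff_aeval_zero_add (F : MvPolynomial (Fin 2) R) (a b c : ℕ) :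
    coeff (sgl3 a b c) (aeval ![(X 0 : MvPolynomial (Fin 3) R), X 1 + X 2] F) =
      ((b + c).choose b : R) * coeff (sgl a (b + c)) F := by
  induction F using MvPolynomial.induction_on' with
  | add p q hp hq => rw [map_add, coeff_add, hp, hq, coeff_add, mul_add]
  | monomial s r =>
    obtain ⟨i, j, rfl⟩ : ∃ i j, s = sgl i j := ⟨_, _, (sgl_self s).symm⟩
    rw [aeval_monomial_sgl]
    simp only [Matrix.cons_val_zero, Matrix.cons_val_one, MvPolynomial.algebraMap_eq, coeff_C_mul,
      add_pow, mul_sum, coeff_sum]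
    have hterm : ∀ m, (X 0 ^ i * (X 1 ^ m * X 2 ^ (j - m) * (j.choose m : MvPolynomial (Fin 3) R))) =
        C ((j.choose m : ℕ) : R) * monomial (sgl3 i m (j - m)) 1 := fun m => by
      rw [← X_pow3, map_natCast]; ring
    simp only [hterm, coeff_C_mul, coeff_monomial, sgl3_eq_sgl3, sgl_eq_sgl]
    by_cases h : i = a ∧ j = b + c
    · obtain ⟨rfl, rfl⟩ := h
      rw [sum_eq_single b]
      · simp [mul_comm]
      · intro m _ hm; rw [if_neg (fun h' => hm h'.2.1), mul_zero, mul_zero]
      · intro hb; simp at hb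
    · rw [if_neg h, mul_zero]
      refine sum_eq_zero fun m hm => ?_
      rw [mem_range] at hm
      rw [if_neg (fun h' => h ⟨h'.1, by omega⟩), mul_zero, mul_zero]

lemma coeff_aeval_add_two (F : MvPolynomial (Fin 2) R) (a b c : ℕ) :
    coeff (sgl3 a b c) (aeval ![(X 0 + X 1 : MvPolynomial (Fin 3) R), X 2] F) =
      ((a + b).choose a : R) * coeff (sgl (a + b) c) F := by
  induction F using MvPolynomial.induction_on' with
  | add p q hp hq => rw [map_add, coeff_add, hp, hq, coeff_add, mul_add]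
  | monomial s r =>
    obtain ⟨i, j, rfl⟩ : ∃ i j, s = sgl i j := ⟨_, _, (sgl_self s).symm⟩
    rw [aeval_monomial_sgl]
    simp only [Matrix.cons_val_zero, Matrix.cons_val_one, MvPolynomial.algebraMap_eq, coeff_C_mul,
      add_pow, sum_mul, mul_sum, coeff_sum]
    have hterm : ∀ m, (X 0 ^ m * X 1 ^ (i - m) * (i.choose m : MvPolynomial (Fin 3) R) * X 2 ^ j) =
        C ((i.choose m : ℕ) : R) * monomial (sgl3 m (i - m) j) 1 := fun m => by
      rw [← X_pow3, map_natCast]; ring
    simp only [hterm, coeff_C_mul, coeff_monomial, sgl3_eq_sgl3, sgl_eq_sgl]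
    by_cases h : i = a + b ∧ j = c
    · obtain ⟨rfl, rfl⟩ := h
      rw [sum_eq_single a]
      · simp [mul_comm]
      · intro m _ hm; rw [if_neg (fun h' => hm h'.1), mul_zero, mul_zero]
      · intro hb; simp at hb
    · rw [if_neg h, mul_zero]
      refine sum_eq_zero fun m hm => ?_
      rw [mem_range] at hm
      rw [if_neg (fun h' => h ⟨by omega, h'.2.2⟩), mul_zero, mul_zero]

lemma coeff_aeval_one_two (F : MvPolynomial (Fin 2) R) (a b c : ℕ) :
    coeff (sgl3 a b c) (aeval ![(X 1 : MvPolynomial (Fin 3) R), X 2] F) =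
      if a = 0 then coeff (sgl b c) F else 0 := by
  induction F using MvPolynomial.induction_on' with
  | add p q hp hq => rw [map_add, coeff_add, hp, hq, coeff_add]; split_ifs <;> simp
  | monomial s r =>
    obtain ⟨i, j, rfl⟩ : ∃ i j, s = sgl i j := ⟨_, _, (sgl_self s).symm⟩
    rw [aeval_monomial_sgl]
    simp only [Matrix.cons_val_zero, Matrix.cons_val_one, MvPolynomial.algebraMap_eq, coeff_C_mul]
    rw [show (X 1 ^ i * X 2 ^ j : MvPolynomial (Fin 3) R) = monomial (sgl3 0 i j) 1 by
      rw [← X_pow3]; simp]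
    simp only [coeff_monomial, sgl3_eq_sgl3, sgl_eq_sgl]
    by_cases ha : a = 0 <;> simp [ha, Ne.symm]

lemma coeff_aeval_zero_one (F : MvPolynomial (Fin 2) R) (a b c : ℕ) :
    coeff (sgl3 a b c) (aeval ![(X 0 : MvPolynomial (Fin 3) R), X 1] F) =
      if c = 0 then coeff (sgl a b) F else 0 := by
  induction F using MvPolynomial.induction_on' with
  | add p q hp hq => rw [map_add, coeff_add, hp, hq, coeff_add]; split_ifs <;> simp
  | monomial s r =>
    obtain ⟨i, j, rfl⟩ : ∃ i j, s = sgl i j := ⟨_, _, (sgl_self s).symm⟩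
    rw [aeval_monomial_sgl]
    simp only [Matrix.cons_val_zero, Matrix.cons_val_one, MvPolynomial.algebraMap_eq, coeff_C_mul]
    rw [show (X 0 ^ i * X 1 ^ j : MvPolynomial (Fin 3) R) = monomial (sgl3 i j 0) 1 by
      rw [← X_pow3]; simp]
    simp only [coeff_monomial, sgl3_eq_sgl3, sgl_eq_sgl]
    by_cases hc : c = 0 <;> simp [hc, Ne.symm]

/-- The additive 2-cocycle condition. -/
def IsCocycle (F : MvPolynomial (Fin 2) R) : Prop :=
  aeval ![(X 0 : MvPolynomial (Fin 3) R), X 1 + X 2] F + aeval ![(X 1 : MvPolynomial (Fin 3) R), X 2] F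
    - aeval ![(X 0 + X 1 : MvPolynomial (Fin 3) R), X 2] F - aeval ![(X 0 : MvPolynomial (Fin 3) R), X 1] F = 0

/-- Symmetry. -/
def IsSymm2 (F : MvPolynomial (Fin 2) R) : Prop :=
  aeval ![(X 1 : MvPolynomial (Fin 2) R), X 0] F = F

lemma IsCocycle.zero : IsCocycle (0 : MvPolynomial (Fin 2) R) := by simp [IsCocycle]

lemma IsCocycle.add {F G : MvPolynomial (Fin 2) R} (hF : IsCocycle F) (hG : IsCocycle G) :
    IsCocycle (F + G) := by
  simp only [IsCocycle, map_add] at *
  linear_combination hF + hG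

lemma IsCocycle.C_mul {F : MvPolynomial (Fin 2) R} (hF : IsCocycle F) (r : R) :
    IsCocycle (C r * F) := by
  simp only [IsCocycle, map_mul, aeval_C, MvPolynomial.algebraMap_eq] at *
  linear_combination C r * hF

lemma IsCocycle.sub {F G : MvPolynomial (Fin 2) R} (hF : IsCocycle F) (hG : IsCocycle G) :
    IsCocycle (F - G) := by
  simp only [IsCocycle, map_sub] at *
  linear_combination hF - hG

/-- The coboundary of G. -/
noncomputable def cobdry (G : Polynomial R) : MvPolynomial (Fin 2) R :=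
  Polynomial.aeval (X 0 + X 1 : MvPolynomial (Fin 2) R) G
    - Polynomial.aeval (X 0 : MvPolynomial (Fin 2) R) G
    - Polynomial.aeval (X 1 : MvPolynomial (Fin 2) R) G

lemma isCocycle_cobdry (G : Polynomial R) : IsCocycle (cobdry G) := by
  simp only [IsCocycle, cobdry, map_sub, ← Polynomial.aeval_algHom_apply, map_add, aeval_X,
    Matrix.cons_val_zero, Matrix.cons_val_one, add_assoc]
  abel

lemma isSymm2_cobdry (G : Polynomial R) : IsSymm2 (cobdry G) := by
  simp only [IsSymm2, cobdry, map_sub, ← Polynomial.aeval_algHom_apply, map_add, aeval_X,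
    Matrix.cons_val_zero, Matrix.cons_val_one, add_comm (X 1 : MvPolynomial (Fin 2) R)]
  abel

lemma coeff_cobdry (G : Polynomial R) (i j : ℕ) :
    coeff (sgl i j) (cobdry G) = ((i + j).choose i : R) * G.coeff (i + j)
      - (if j = 0 then G.coeff i else 0) - (if i = 0 then G.coeff j else 0) := by
  rw [cobdry, coeff_sub, coeff_sub, coeff_aeval_add, coeff_aeval_X0, coeff_aeval_X1]

lemma isSymm2_iff_coeff (F : MvPolynomial (Fin 2) R) :
    IsSymm2 F ↔ ∀ i j, coeff (sgl i j) F = coeff (sgl j i) F := by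
  have h : ∀ (F : MvPolynomial (Fin 2) R) (i j), coeff (sgl i j) (aeval ![(X 1 : MvPolynomial (Fin 2) R), X 0] F) =
      coeff (sgl j i) F := by
    intro F i j
    induction F using MvPolynomial.induction_on' with
    | add p q hp hq => rw [map_add, coeff_add, hp, hq, coeff_add]
    | monomial s r =>
      obtain ⟨k, l, rfl⟩ : ∃ k l, s = sgl k l := ⟨_, _, (sgl_self s).symm⟩
      rw [aeval_monomial_sgl]
      simp only [Matrix.cons_val_zero, Matrix.cons_val_one, MvPolynomial.algebraMap_eq, coeff_C_mul]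
      rw [mul_comm (X 1 ^ k), X_pow_mul_X_pow, coeff_monomial, coeff_monomial]
      simp only [sgl_eq_sgl]
      by_cases h : l = i ∧ k = j
      · rw [if_pos h, if_pos h.symm, mul_one]
      · rw [if_neg h, if_neg (fun h' => h h'.symm), mul_zero]
  refine ⟨fun hF i j => ?_, fun hF => MvPolynomial.ext _ _ fun s => ?_⟩
  · conv_lhs => rw [← hF]
    exact h F i j
  · rw [← sgl_self s, h, hF]

lemma isCocycle_iff_coeff (F : MvPolynomial (Fin 2) R) :
    IsCocycle F ↔ ∀ a b c, ((b + c).choose b : R) * coeff (sgl a (b + c)) F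
      + (if a = 0 then coeff (sgl b c) F else 0)
      - ((a + b).choose a : R) * coeff (sgl (a + b) c) F
      - (if c = 0 then coeff (sgl a b) F else 0) = 0 := by
  refine ⟨fun h a b c => ?_, fun h => MvPolynomial.ext _ _ fun s => ?_⟩
  · have := congrArg (coeff (sgl3 a b c)) h
    simpa only [coeff_sub, coeff_add, coeff_zero, coeff_aeval_zero_add, coeff_aeval_one_two,
      coeff_aeval_add_two, coeff_aeval_zero_one] using this
  · rw [← sgl3_self s]
    simpa only [coeff_sub, coeff_add, coeff_zero, coeff_aeval_zero_add, coeff_aeval_one_two,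
      coeff_aeval_add_two, coeff_aeval_zero_one] using h (s 0) (s 1) (s 2)

lemma coeff_edge {F : MvPolynomial (Fin 2) R} (hF : IsCocycle F) (m : ℕ) (hm : 1 ≤ m) :
    coeff (sgl 0 m) F = 0 := by
  have := (isCocycle_iff_coeff F).1 hF 0 0 m
  simpa [show m ≠ 0 by omega] using this

variable (p : ℕ)

/-- The basic cocycle ((X+Y)^p - X^p - Y^p)/p. -/
noncomputable def basicS (R : Type u) [CommRing R] : MvPolynomial (Fin 2) R :=
  ∑ j ∈ Finset.Ioo 0 p, C ((p.choose j / p : ℕ) : R) * X 0 ^ j * X 1 ^ (p - j)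

/-- Its transform by X ↦ X^(p^k). -/
noncomputable def basicSPow (R : Type u) [CommRing R] (k : ℕ) : MvPolynomial (Fin 2) R :=
  aeval ![(X 0 : MvPolynomial (Fin 2) R) ^ p ^ k, X 1 ^ p ^ k] (basicS p R)

lemma coeff_basicS (i j : ℕ) :
    coeff (sgl i j) (basicS p R) =
      if 0 < i ∧ 0 < j ∧ i + j = p then ((p.choose i / p : ℕ) : R) else 0 := by
  rw [basicS, coeff_sum]
  simp only [mul_assoc, X_pow_mul_X_pow, coeff_C_mul, coeff_monomial, sgl_eq_sgl, mul_ite, mul_one,
    mul_zero]
  split_ifs with h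
  · rw [sum_eq_single i, if_pos ⟨rfl, by omega⟩]
    · intro m _ hm; rw [if_neg fun h' => hm h'.1]
    · intro hi; simp at hi; omega
  · refine sum_eq_zero fun m hm => ?_
    rw [mem_Ioo] at hm
    rw [if_neg fun h' => h (by omega)]

lemma coeff_basicSPow (k i j : ℕ) :
    coeff (sgl i j) (basicSPow p R k) = ∑ m ∈ Finset.Ioo 0 p,
      if m * p ^ k = i ∧ (p - m) * p ^ k = j then ((p.choose m / p : ℕ) : R) else 0 := by
  simp only [basicSPow, basicS, map_sum, map_mul, map_pow, aeval_C, aeval_X, Matrix.cons_val_zero,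
    Matrix.cons_val_one, MvPolynomial.algebraMap_eq, coeff_sum, ← pow_mul]
  simp only [mul_assoc, X_pow_mul_X_pow, coeff_C_mul, coeff_monomial, sgl_eq_sgl, mul_ite, mul_one, mul_zero,
    mul_comm (p ^ k)]

variable [Fact p.Prime]

lemma isCocycle_basicS : IsCocycle (basicS p R) := by
  have hp : p.Prime := Fact.out
  rw [isCocycle_iff_coeff]
  intro a b c
  simp only [coeff_basicS]
  rcases Nat.eq_zero_or_pos a with rfl | ha
  · rcases Nat.eq_zero_or_pos c with rfl | hc
    · simp
    · simp [hc.ne', show ¬ c = 0 by omega]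
  rcases Nat.eq_zero_or_pos c with rfl | hc
  · simp [ha.ne', add_comm b 0]
  rw [if_neg ha.ne', if_neg hc.ne', add_zero, sub_zero, sub_eq_zero]
  by_cases hn : a + b + c = p
  · rw [if_pos ⟨ha, by omega, by omega⟩, if_pos ⟨by omega, hc, by omega⟩, ← Nat.cast_mul, ← Nat.cast_mul]
    congr 1
    rw [← Nat.mul_div_assoc _ (hp.dvd_choose_self ha.ne' (by omega)),
      ← Nat.mul_div_assoc _ (hp.dvd_choose_self (by omega) (by omega))]
    congr 1
    have h1 := Nat.choose_mul (n := p) (k := a + b) (s := a) (by omega)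
    rw [show p - a = b + c by omega, Nat.add_sub_cancel_left] at h1
    rw [mul_comm, ← h1, mul_comm]
  · rw [if_neg (fun h => hn (by omega)), if_neg (fun h => hn (by omega)), mul_zero, mul_zero]

lemma isSymm2_basicS : IsSymm2 (basicS p R) := by
  rw [isSymm2_iff_coeff]
  intro i j
  rw [coeff_basicS, coeff_basicS]
  by_cases h : 0 < i ∧ 0 < j ∧ i + j = p
  · rw [if_pos h, if_pos ⟨h.2.1, h.1, by omega⟩, ← Nat.choose_symm (show i ≤ p by omega),
      show p - i = j by omega]
  · rw [if_neg h, if_neg fun h' => h ⟨h'.2.1, h'.1, by omega⟩]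

variable [CharP R p]

lemma isCocycle_basicSPow (k : ℕ) : IsCocycle (basicSPow p R k) := by
  have h := isCocycle_basicS p (R := R)
  have := congrArg (aeval fun a : Fin 3 => (X a : MvPolynomial (Fin 3) R) ^ p ^ k) h
  simp only [map_sub, map_add, map_zero] at this
  have comp : ∀ (g : Fin 2 → MvPolynomial (Fin 3) R) (h : Fin 3 → MvPolynomial (Fin 3) R)
      (F : MvPolynomial (Fin 2) R), aeval h (aeval g F) = aeval (fun i => aeval h (g i)) F :=
    fun g h F => by rw [← AlgHom.comp_apply, comp_aeval]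
  have comp' : ∀ (g : Fin 2 → MvPolynomial (Fin 3) R) (F : MvPolynomial (Fin 2) R),
      aeval g (aeval ![(X 0 : MvPolynomial (Fin 2) R) ^ p ^ k, X 1 ^ p ^ k] F) =
        aeval ![g 0 ^ p ^ k, g 1 ^ p ^ k] F := by
    intro g F
    rw [← AlgHom.comp_apply, comp_aeval]
    congr 2; funext i; fin_cases i <;> simp
  have e : ∀ (u w : MvPolynomial (Fin 3) R) (h : Fin 3 → MvPolynomial (Fin 3) R),
      (fun i => aeval h (![u, w] i)) = ![aeval h u, aeval h w] := fun u w h => by
    funext i; fin_cases i <;> simp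
  simp only [comp, e, map_add, aeval_X] at this
  simp only [IsCocycle, basicSPow, comp', Matrix.cons_val_zero, Matrix.cons_val_one,
    add_pow_char_pow]
  exact this

lemma isSymm2_basicSPow (k : ℕ) : IsSymm2 (basicSPow p R k) := by
  have h := congrArg (aeval ![(X 0 : MvPolynomial (Fin 2) R) ^ p ^ k, X 1 ^ p ^ k])
    (isSymm2_basicS p (R := R))
  rw [← AlgHom.comp_apply, comp_aeval] at h
  rw [IsSymm2, basicSPow]
  conv_rhs => rw [← h]
  rw [← AlgHom.comp_apply, comp_aeval]
  congr 2; funext i; fin_cases i <;> simp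

theorem eq_zero_of_cocycle {F : MvPolynomial (Fin 2) R} (hs : IsSymm2 F) (hF : IsCocycle F)
    (h00 : coeff (sgl 0 0) F = 0)
    (hnorm : ∀ v m, ¬ p ∣ m → 2 ≤ m → coeff (sgl (p ^ v) (p ^ v * m - p ^ v)) F = 0)
    (hnorm' : ∀ v, coeff (sgl (p ^ v) (p ^ (v + 1) - p ^ v)) F = 0) : F = 0 := by
  have hp : p.Prime := Fact.out
  have hsy := (isSymm2_iff_coeff F).1 hs
  have heq : ∀ a b c, 1 ≤ a → 1 ≤ c → ((b + c).choose b : R) * coeff (sgl a (b + c)) F =
      ((a + b).choose a : R) * coeff (sgl (a + b) c) F := by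
    intro a b c ha hc
    have := (isCocycle_iff_coeff F).1 hF a b c
    simpa [show a ≠ 0 by omega, show c ≠ 0 by omega, sub_eq_zero] using this
  refine MvPolynomial.ext _ _ fun s => ?_
  rw [coeff_zero, ← sgl_self s]
  generalize s 0 = i
  generalize s 1 = j
  rcases Nat.eq_zero_or_pos i with rfl | hi
  · rcases Nat.eq_zero_or_pos j with rfl | hj
    · exact h00
    · exact coeff_edge hF j hj
  rcases Nat.eq_zero_or_pos j with rfl | hj
  · rw [hsy]; exact coeff_edge hF i hi
  obtain ⟨n, hn⟩ : ∃ n, n = i + j := ⟨_, rfl⟩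
  obtain ⟨v0, m0, hm0, hvm⟩ := Nat.exists_eq_pow_mul_and_not_dvd (show n ≠ 0 by omega) p hp.ne_one
  obtain ⟨v, q, hq, hq1, hzero, hcase⟩ : ∃ v q, n = q * p ^ v ∧ 2 ≤ q ∧
      coeff (sgl (p ^ v) (n - p ^ v)) F = 0 ∧ (¬ p ∣ q ∨ q = p) := by
    rcases Nat.lt_or_ge m0 2 with h | h
    · obtain rfl : m0 = 1 := by
        rcases Nat.eq_zero_or_pos m0 with rfl | h0
        · simp at hm0
        · omega
      rw [mul_one] at hvm
      obtain ⟨v, rfl⟩ : ∃ v, v0 = v + 1 := by
        rcases Nat.eq_zero_or_pos v0 with rfl | h0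
        · simp at hvm; omega
        · exact ⟨v0 - 1, by omega⟩
      exact ⟨v, p, by rw [hvm, pow_succ'], hp.two_le, by rw [hvm]; exact hnorm' v, Or.inr rfl⟩
    · exact ⟨v0, m0, by rw [hvm, mul_comm], h, by rw [hvm]; exact hnorm v0 m0 hm0 h, Or.inl hm0⟩
  have hP : 0 < p ^ v := pow_pos hp.pos v
  have hvn : p ^ v + p ^ v ≤ n := by rw [hq]; nlinarith
  have hpow : ∀ s, p ^ s < n → coeff (sgl (p ^ s) (n - p ^ s)) F = 0 := by
    intro s hsn
    rcases lt_trichotomy s v with h | rfl | h
    · have hlt : p ^ s < p ^ v := Nat.pow_lt_pow_right hp.one_lt h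
      have := heq (p ^ s) (p ^ v - p ^ s) (n - p ^ v) (pow_pos hp.pos s) (by omega)
      rw [show p ^ s + (p ^ v - p ^ s) = p ^ v by omega, hzero, mul_zero,
        show p ^ v - p ^ s + (n - p ^ v) = n - p ^ s by omega] at this
      obtain ⟨q', rfl⟩ : ∃ q', q = q' + 1 := ⟨q - 1, by omega⟩
      rw [show (n - p ^ s).choose (p ^ v - p ^ s) =
          (q' * p ^ v + (p ^ v - p ^ s)).choose (p ^ v - p ^ s) by rw [hq, add_mul, one_mul]; congr 1; omega,
        cast_choose_self_add p v q' _ (by have := pow_pos hp.pos s; omega), one_mul] at this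
      exact this
    · exact hzero
    · have hd : p ^ s = p ^ (s - v) * p ^ v := by rw [← pow_add]; congr 1; omega
      have hpd : p ∣ p ^ (s - v) := dvd_pow_self p (by omega)
      have hdq : p ^ (s - v) < q := Nat.lt_of_mul_lt_mul_right (a := p ^ v) (by rw [← hd, ← hq]; exact hsn)
      have hnd : ¬ p ∣ q := hcase.resolve_right fun h' => by
        have := Nat.le_of_dvd (pow_pos hp.pos (s - v)) hpd
        omega
      obtain ⟨t, ht⟩ : ∃ t, q = p ^ (s - v) + t + 1 := ⟨q - p ^ (s - v) - 1, by omega⟩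
      have := heq (p ^ s) (t * p ^ v) (p ^ v) (pow_pos hp.pos s) hP
      rw [show p ^ s + t * p ^ v = n - p ^ v by rw [hq, ht, hd]; simp [add_mul],
        show t * p ^ v + p ^ v = n - p ^ s by rw [hq, ht, hd]; simp [add_mul, add_assoc],
        hsy (n - p ^ v) (p ^ v), hzero, mul_zero] at this
      have hc : (((n - p ^ s).choose (t * p ^ v) : ℕ) : R) = ((t + 1 : ℕ) : R) := by
        rw [show n - p ^ s = (t + 1) * p ^ v by rw [hq, ht, hd]; simp [add_mul, add_assoc],
          Nat.choose_symm_of_eq_add (show (t + 1) * p ^ v = t * p ^ v + p ^ v by ring)]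
        exact cast_choose_pow p v (t + 1)
      rw [hc] at this
      refine ((isUnit_natCast_of_not_dvd p (R := R) fun h' => hnd ?_).mul_right_eq_zero).1 this
      rw [ht, add_assoc]
      exact dvd_add hpd h'
  obtain ⟨w, l, hl, hwl⟩ := Nat.exists_eq_pow_mul_and_not_dvd (show i ≠ 0 by omega) p hp.ne_one
  have hw : p ^ w ≤ i := Nat.le_of_dvd hi ⟨l, hwl⟩
  have := heq (p ^ w) (i - p ^ w) j (pow_pos hp.pos w) hj
  rw [show p ^ w + (i - p ^ w) = i by omega, show i - p ^ w + j = n - p ^ w by omega,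
    hpow w (by omega), mul_zero] at this
  have hu : IsUnit ((i.choose (p ^ w) : ℕ) : R) := by
    rw [hwl, mul_comm (p ^ w), cast_choose_pow p w l]
    exact isUnit_natCast_of_not_dvd p hl
  exact hu.mul_right_eq_zero.1 this.symm

lemma choose_div_one : (p.choose 1 / p : ℕ) = 1 := by
  rw [Nat.choose_one_right, Nat.div_self (Fact.out : p.Prime).pos]

/-- The value r_k of a cocycle. -/
noncomputable def rVal (F : MvPolynomial (Fin 2) R) (k : ℕ) : R :=
  coeff (sgl (p ^ k) (p ^ (k + 1) - p ^ k)) F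

/-- The coefficient g_n of the coboundary part of a cocycle. -/
noncomputable def gVal (F : MvPolynomial (Fin 2) R) (n : ℕ) : R :=
  if n = 0 then -coeff (sgl 0 0) F
  else if n = p ^ padicValNat p n then 0
  else Ring.inverse ((n / p ^ padicValNat p n : ℕ) : R) *
    coeff (sgl (p ^ padicValNat p n) (n - p ^ padicValNat p n)) F

theorem lazard (F : MvPolynomial (Fin 2) R) (hs : IsSymm2 F) (hF : IsCocycle F) (D : ℕ)
    (hD : F.totalDegree < D) :
    F = cobdry (∑ n ∈ range D, Polynomial.C (gVal p F n) * Polynomial.X ^ n) +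
      ∑ k ∈ range D, C (rVal p F k) * basicSPow p R k := by
  have hp : p.Prime := Fact.out
  have hvanish : ∀ i j, D ≤ i + j → coeff (sgl i j) F = 0 := fun i j h => by
    by_contra hne
    have h1 := MvPolynomial.le_totalDegree (mem_support_iff.2 hne)
    have h2 : (sgl i j).sum (fun _ e => e) = i + j := by
      rw [Finsupp.sum_fintype _ _ (fun _ => rfl), Fin.sum_univ_two, sgl_zero_apply, sgl_one_apply]
    omega
  set G := ∑ n ∈ range D, Polynomial.C (gVal p F n) * Polynomial.X ^ n with hG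
  have hGc : ∀ n, G.coeff n = if n < D then gVal p F n else 0 := fun n => by
    simp [hG, Polynomial.finsetSum_coeff, Polynomial.coeff_C_mul, Polynomial.coeff_X_pow]
  have hS : ∀ k i j, i + j ≠ p ^ (k + 1) → coeff (sgl i j) (basicSPow p R k) = 0 := by
    intro k i j h
    rw [coeff_basicSPow]
    refine sum_eq_zero fun m hm => ?_
    rw [mem_Ioo] at hm
    rw [if_neg]
    rintro ⟨rfl, rfl⟩
    exact h (by rw [← add_mul, Nat.add_sub_cancel' hm.2.le, pow_succ'])
  have hS1 : ∀ k, coeff (sgl (p ^ k) (p ^ (k + 1) - p ^ k)) (basicSPow p R k) = 1 := by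
    intro k
    rw [coeff_basicSPow, sum_eq_single 1]
    · rw [if_pos ⟨one_mul _, by rw [Nat.sub_one_mul, pow_succ']⟩, choose_div_one, Nat.cast_one]
    · intro m _ hm1
      rw [if_neg]
      rintro ⟨h, -⟩
      exact hm1 ((Nat.mul_eq_right (pow_pos hp.pos k).ne').1 h)
    · intro h; simp [hp.one_lt] at h
  rw [← sub_eq_zero]
  have hsum : IsCocycle (∑ k ∈ range D, C (rVal p F k) * basicSPow p R k) :=
    Finset.sum_induction _ IsCocycle (fun _ _ => IsCocycle.add) IsCocycle.zero
      fun k _ => (isCocycle_basicSPow p k).C_mul _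
  refine eq_zero_of_cocycle p ?_ (hF.sub ((isCocycle_cobdry G).add hsum)) ?_ ?_ ?_
  · simp only [IsSymm2] at hs ⊢
    rw [map_sub, map_add, map_sum, hs, isSymm2_cobdry G]
    simp only [map_mul, aeval_C, MvPolynomial.algebraMap_eq]
    congr 2
    exact sum_congr rfl fun k _ => by rw [isSymm2_basicSPow p k]
  all_goals simp only [coeff_sub, coeff_add, coeff_cobdry, hGc, coeff_sum, coeff_C_mul]
  · rw [sum_eq_zero fun k _ => by rw [hS k 0 0 (by have := pow_pos hp.pos (k + 1); omega), mul_zero]]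
    by_cases h : 0 < D
    · simp [h, gVal]
    · simp [h, hvanish 0 0 (by omega)]
  · intro v m hm h2
    have hP := pow_pos hp.pos v
    have hlt : p ^ v < p ^ v * m := by nlinarith
    have hadd : p ^ v + (p ^ v * m - p ^ v) = p ^ v * m := by omega
    rw [hadd, if_neg (show ¬ p ^ v = 0 by omega), if_neg (show ¬ p ^ v * m - p ^ v = 0 by omega),
      sum_eq_zero fun k _ => ?_]
    swap
    · rw [hS, mul_zero]
      rw [hadd]
      intro h
      have hdiv : p ^ v * m ∣ p ^ (k + 1) := h ▸ dvd_rfl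
      obtain ⟨t, -, ht⟩ := (Nat.dvd_prime_pow hp).1 (dvd_of_mul_left_dvd hdiv)
      rcases Nat.eq_zero_or_pos t with rfl | ht0
      · simp at ht; omega
      · exact hm (ht ▸ dvd_pow_self p (by omega))
    rcases Nat.lt_or_ge (p ^ v * m) D with h | h
    · have hval : padicValNat p (p ^ v * m) = v := by
        rw [padicValNat.mul (pow_ne_zero v hp.ne_zero) (by omega), padicValNat.prime_pow,
          padicValNat.eq_zero_of_not_dvd hm, add_zero]
      rw [if_pos h, gVal, if_neg (show p ^ v * m ≠ 0 by omega), hval, if_neg (show ¬ p ^ v * m = p ^ v by omega),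
        Nat.mul_div_cancel_left _ hP, mul_comm (p ^ v) m, cast_choose_pow p v m, ← mul_assoc,
        Ring.mul_inverse_cancel _ (isUnit_natCast_of_not_dvd p hm)]
      simp
    · rw [hvanish _ _ (by omega), if_neg (by omega)]; simp
  · intro v
    have hP := pow_pos hp.pos v
    have hlt : p ^ v < p ^ (v + 1) := Nat.pow_lt_pow_right hp.one_lt (by omega)
    have hadd : p ^ v + (p ^ (v + 1) - p ^ v) = p ^ (v + 1) := by omega
    rw [hadd, if_neg (show ¬ p ^ v = 0 by omega), if_neg (show ¬ p ^ (v + 1) - p ^ v = 0 by omega)]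
    have hg : (if p ^ (v + 1) < D then gVal p F (p ^ (v + 1)) else 0) = 0 := by
      split_ifs with h
      · rw [gVal, if_neg (show p ^ (v + 1) ≠ 0 by omega), padicValNat.prime_pow, if_pos rfl]
      · rfl
    rw [hg, mul_zero, sum_eq_single v]
    · rw [hS1, mul_one, rVal]; ring
    · intro k _ hk
      rw [hS, mul_zero]
      rw [hadd]
      exact fun h => hk (by have := Nat.pow_right_injective hp.two_le h; omega)
    · intro h
      rw [mem_range, not_lt] at h
      have : v < p ^ v := Nat.lt_pow_self hp.one_lt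
      rw [rVal, hvanish _ _ (by omega), zero_mul]

end Groth.Agent.GaDual
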