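import Groth.Agent.Lib.GaDual.Char
import Groth.Agent.Lib.GaDual.Lazard
import Mathlib.RingTheory.Polynomial.Nilpotent
import Mathlib.Algebra.MvPolynomial.Nilpotent
import Mathlib.RingTheory.Polynomial.Basic
import Mathlib.RingTheory.Finiteness.Ideal
import Mathlib.RingTheory.Nilpotent.Lemmas
import Mathlib.NumberTheory.Wilson
import Mathlib.Algebra.CharP.Quotient
import Mathlib.FieldTheory.Perfect

/-!
Symmetric multiplicative 2-cocycles of the additive group are coboundaries when Frobenius is
surjective.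
-/

universe u

open Finset MvPolynomial

namespace Groth.Agent.GaDual

variable {R : Type u} [CommRing R]

/-- The multiplicative cocycle condition. -/
def IsMulCocycle (h : MvPolynomial (Fin 2) R) : Prop :=
  aeval ![(X 1 : MvPolynomial (Fin 3) R), X 2] h * aeval ![(X 0 : MvPolynomial (Fin 3) R), X 1 + X 2] h =
    aeval ![(X 0 + X 1 : MvPolynomial (Fin 3) R), X 2] h * aeval ![(X 0 : MvPolynomial (Fin 3) R), X 1] h

/-- h is the coboundary of a unit. -/
def IsMulCobdry (h : MvPolynomial (Fin 2) R) : Prop :=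
  ∃ f : Polynomial R, IsUnit f ∧
    Polynomial.aeval (X 0 + X 1 : MvPolynomial (Fin 2) R) f =
      Polynomial.aeval (X 0 : MvPolynomial (Fin 2) R) f *
        Polynomial.aeval (X 1 : MvPolynomial (Fin 2) R) f * h

lemma isMulCobdry_one : IsMulCobdry (1 : MvPolynomial (Fin 2) R) := ⟨1, isUnit_one, by simp⟩

lemma IsMulCobdry.mul {g h : MvPolynomial (Fin 2) R} (hg : IsMulCobdry g) (hh : IsMulCobdry h) :
    IsMulCobdry (g * h) := by
  obtain ⟨f, hf, hf'⟩ := hg
  obtain ⟨f', hf1, hf1'⟩ := hh
  refine ⟨f * f', hf.mul hf1, ?_⟩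
  simp only [map_mul, hf', hf1']
  ring

lemma exists_cobdry (f : Polynomial R) (hf : IsUnit f) :
    ∃ d : MvPolynomial (Fin 2) R,
      Polynomial.aeval (X 0 + X 1 : MvPolynomial (Fin 2) R) f =
        Polynomial.aeval (X 0 : MvPolynomial (Fin 2) R) f *
          Polynomial.aeval (X 1 : MvPolynomial (Fin 2) R) f * d := by
  obtain ⟨u, hu⟩ := (hf.map (Polynomial.aeval (X 0 : MvPolynomial (Fin 2) R))).mul
    (hf.map (Polynomial.aeval (X 1 : MvPolynomial (Fin 2) R)))
  exact ⟨↑u⁻¹ * Polynomial.aeval (X 0 + X 1 : MvPolynomial (Fin 2) R) f, by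
    rw [← hu, ← mul_assoc, Units.mul_inv, one_mul]⟩

lemma IsMulCobdry.properties {d : MvPolynomial (Fin 2) R} (hd : IsMulCobdry d) :
    IsUnit d ∧ IsSymm2 d ∧ IsMulCocycle d := by
  obtain ⟨f, hf, h⟩ := hd
  have hX : ∀ {n : ℕ} (t : MvPolynomial (Fin n) R), IsUnit (Polynomial.aeval t f) := fun t => hf.map _
  refine ⟨?_, ?_, ?_⟩
  · have := hX (X 0 + X 1 : MvPolynomial (Fin 2) R)
    rw [h] at this
    exact isUnit_of_mul_isUnit_right this
  · have h' := congrArg (aeval ![(X 1 : MvPolynomial (Fin 2) R), X 0]) h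
    simp only [map_mul, ← Polynomial.aeval_algHom_apply, map_add, aeval_X, Matrix.cons_val_zero,
      Matrix.cons_val_one, add_comm (X 1 : MvPolynomial (Fin 2) R)] at h'
    refine ((hX (X 0 : MvPolynomial (Fin 2) R)).mul (hX (X 1))).mul_left_cancel ?_
    rw [← h, h']
    ring
  · have e : ∀ u w : MvPolynomial (Fin 3) R, Polynomial.aeval (u + w) f =
        Polynomial.aeval u f * Polynomial.aeval w f * aeval ![u, w] d := fun u w => by
      have h' := congrArg (aeval ![u, w]) h
      simpa only [map_mul, ← Polynomial.aeval_algHom_apply, map_add, aeval_X, Matrix.cons_val_zero,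
        Matrix.cons_val_one] using h'
    refine ((hX (X 0 : MvPolynomial (Fin 3) R)).mul ((hX (X 1)).mul (hX (X 2)))).mul_left_cancel ?_
    have h1 := e (X 0) (X 1 + X 2)
    have h2 := e (X 0 + X 1) (X 2)
    rw [e (X 1) (X 2)] at h1
    rw [e (X 0) (X 1)] at h2
    rw [← add_assoc] at h1
    linear_combination h2 - h1

lemma IsMulCocycle.mul {g h : MvPolynomial (Fin 2) R} (hg : IsMulCocycle g) (hh : IsMulCocycle h) :
    IsMulCocycle (g * h) := by
  simp only [IsMulCocycle, map_mul] at *
  linear_combination (aeval ![X 1, X 2] h * aeval ![X 0, X 1 + X 2] h) * hg +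
    (aeval ![X 0 + X 1, X 2] g * aeval ![X 0, X 1] g) * hh

lemma IsMulCocycle.inv {g g' : MvPolynomial (Fin 2) R} (hg : IsMulCocycle g) (h : g * g' = 1) :
    IsMulCocycle g' := by
  have e : ∀ φ : MvPolynomial (Fin 2) R →ₐ[R] MvPolynomial (Fin 3) R, φ g * φ g' = 1 := fun φ => by
    rw [← map_mul, h, map_one]
  simp only [IsMulCocycle] at *
  refine ((IsUnit.of_mul_eq_one _ (e (aeval ![X 1, X 2]))).mul
    (IsUnit.of_mul_eq_one _ (e (aeval ![X 0, X 1 + X 2])))).mul_left_cancel ?_
  conv_rhs => rw [hg]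
  rw [mul_mul_mul_comm, e, e, mul_mul_mul_comm, e, e]

lemma IsSymm2.mul {g h : MvPolynomial (Fin 2) R} (hg : IsSymm2 g) (hh : IsSymm2 h) :
    IsSymm2 (g * h) := by
  simp only [IsSymm2, map_mul] at *
  rw [hg, hh]

lemma IsSymm2.inv {g g' : MvPolynomial (Fin 2) R} (hg : IsSymm2 g) (h : g * g' = 1) :
    IsSymm2 g' := by
  have e : aeval ![(X 1 : MvPolynomial (Fin 2) R), X 0] g * aeval ![(X 1 : MvPolynomial (Fin 2) R), X 0] g' = 1 := by
    rw [← map_mul, h, map_one]
  simp only [IsSymm2] at *
  rw [hg] at e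
  exact (IsUnit.of_mul_eq_one _ h).mul_left_cancel (e.trans h.symm)

section BaseChange

variable {S : Type u} [CommRing S]

lemma map_aeval_mv {m n : ℕ} (π : R →+* S) (g : Fin m → MvPolynomial (Fin n) R)
    (h : MvPolynomial (Fin m) R) :
    MvPolynomial.map π (aeval g h) = aeval (fun i => MvPolynomial.map π (g i)) (MvPolynomial.map π h) := by
  induction h using MvPolynomial.induction_on with
  | C r => simp
  | add a b ha hb => simp [ha, hb]
  | mul_X a i ha => simp [ha]

lemma map_aeval_pair {n : ℕ} (π : R →+* S) (u w : MvPolynomial (Fin n) R)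
    (h : MvPolynomial (Fin 2) R) :
    MvPolynomial.map π (aeval ![u, w] h) =
      aeval ![MvPolynomial.map π u, MvPolynomial.map π w] (MvPolynomial.map π h) := by
  rw [map_aeval_mv]
  congr 2
  funext i; fin_cases i <;> simp

lemma map_aeval_poly (π : R →+* S) {n : ℕ} (t : MvPolynomial (Fin n) R) (q : Polynomial R) :
    MvPolynomial.map π (Polynomial.aeval t q) = Polynomial.aeval (MvPolynomial.map π t) (q.map π) := by
  induction q using Polynomial.induction_on' with
  | add a b ha hb => simp [ha, hb]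
  | monomial k r => simp [Polynomial.aeval_monomial, Polynomial.map_monomial]

lemma IsMulCocycle.map (π : R →+* S) {h : MvPolynomial (Fin 2) R} (hh : IsMulCocycle h) :
    IsMulCocycle (MvPolynomial.map π h) := by
  have := congrArg (MvPolynomial.map π) hh
  simpa only [IsMulCocycle, map_mul, map_aeval_pair, map_add, MvPolynomial.map_X] using this

lemma IsSymm2.map (π : R →+* S) {h : MvPolynomial (Fin 2) R} (hh : IsSymm2 h) :
    IsSymm2 (MvPolynomial.map π h) := by
  have := congrArg (MvPolynomial.map π) hh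
  simpa only [IsSymm2, map_aeval_pair, MvPolynomial.map_X] using this

lemma map_ringInverse (π : R →+* S) {x : R} (hx : IsUnit x) : π (Ring.inverse x) = Ring.inverse (π x) := by
  refine (hx.map π).mul_left_cancel ?_
  rw [← map_mul, Ring.mul_inverse_cancel _ hx, map_one, Ring.mul_inverse_cancel _ (hx.map π)]

variable (p : ℕ) [hp : Fact p.Prime] [CharP R p]

lemma map_expP (π : R →+* S) (b : R) (k : ℕ) : (expP p b k).map π = expP p (π b) k := by
  simp only [expP, Polynomial.map_sum, Polynomial.map_mul, Polynomial.map_pow, Polynomial.map_X,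
    Polynomial.map_C, map_mul, map_pow]
  refine sum_congr rfl fun j hj => ?_
  rw [mem_range] at hj
  rw [map_ringInverse π (isUnit_factorial p hj), map_natCast]

end BaseChange

section Weighted

/-- The polynomials whose coefficient in total degree n is a multiple of b^n. -/
def weighted (b : R) : Subring (MvPolynomial (Fin 2) R) where
  carrier := {F | ∀ i j, coeff (sgl i j) F ∈ Ideal.span {b ^ (i + j)}}
  zero_mem' i j := by simp
  one_mem' i j := by
    classical
    rw [MvPolynomial.coeff_one]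
    split_ifs with h
    · obtain ⟨rfl, rfl⟩ : 0 = i ∧ 0 = j := by
        rw [← sgl_eq_sgl, ← h]; simp [sgl]
      simp
    · exact zero_mem _
  add_mem' hF hG i j := by rw [coeff_add]; exact add_mem (hF i j) (hG i j)
  neg_mem' hF i j := by rw [coeff_neg]; exact neg_mem (hF i j)
  mul_mem' {F G} hF hG i j := by
    classical
    rw [MvPolynomial.coeff_mul]
    refine sum_mem fun st hst => ?_
    rw [mem_antidiagonal] at hst
    have h1 := hF (st.1 0) (st.1 1)
    have h2 := hG (st.2 0) (st.2 1)
    rw [sgl_self] at h1 h2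
    have := Ideal.mul_mem_mul h1 h2
    rw [Ideal.span_singleton_mul_span_singleton, ← pow_add] at this
    have e0 := DFunLike.congr_fun hst 0
    have e1 := DFunLike.congr_fun hst 1
    rw [Finsupp.add_apply, sgl_zero_apply] at e0
    rw [Finsupp.add_apply, sgl_one_apply] at e1
    rwa [show st.1 0 + st.1 1 + (st.2 0 + st.2 1) = i + j by omega] at this

variable (p : ℕ) [hp : Fact p.Prime] [CharP R p]

lemma ringInverse_factorial_pred : Ring.inverse (((p - 1).factorial : ℕ) : R) = -1 := by
  have h : (((p - 1).factorial : ℕ) : R) = -1 := by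
    have := congrArg (ZMod.castHom (dvd_refl p) R) (ZMod.wilsons_lemma p)
    rw [map_natCast, map_neg, map_one] at this
    exact this
  have h2 := Ring.mul_inverse_cancel _ (isUnit_factorial (R := R) p (Nat.sub_lt hp.out.pos one_pos))
  rw [h] at h2 ⊢
  linear_combination -h2

lemma expTrunc_mem_weighted (b : R) (a : Fin 2) :
    Polynomial.aeval (X a : MvPolynomial (Fin 2) R) (expTrunc p b) ∈ weighted b := by
  intro i j
  have key : ∀ n, (expTrunc p b).coeff n ∈ Ideal.span {b ^ n} := fun n => by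
    rw [coeff_expTrunc]
    split_ifs
    · exact Ideal.mul_mem_left _ _ (Ideal.subset_span rfl)
    · exact zero_mem _
  fin_cases a
  · show coeff _ (Polynomial.aeval (X 0 : MvPolynomial (Fin 2) R) _) ∈ _
    rw [coeff_aeval_X0]
    split_ifs with h
    · subst h; simpa using key i
    · exact zero_mem _
  · show coeff _ (Polynomial.aeval (X 1 : MvPolynomial (Fin 2) R) _) ∈ _
    rw [coeff_aeval_X1]
    split_ifs with h
    · subst h; simpa using key j
    · exact zero_mem _

lemma expTrunc_add_mem_weighted (b : R) :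
    Polynomial.aeval (X 0 + X 1 : MvPolynomial (Fin 2) R) (expTrunc p b) ∈ weighted b := by
  intro i j
  rw [coeff_aeval_add, coeff_expTrunc]
  split_ifs
  · exact Ideal.mul_mem_left _ _ (Ideal.mul_mem_left _ _ (Ideal.subset_span rfl))
  · simp

lemma exists_cobdry_expTrunc (b r : R) (hb : b ^ p = r) (hr : r * r = 0) :
    ∃ U : MvPolynomial (Fin 2) R,
      (1 + U) * (Polynomial.aeval (X 0 : MvPolynomial (Fin 2) R) (expTrunc p b) *
        Polynomial.aeval (X 1 : MvPolynomial (Fin 2) R) (expTrunc p b)) =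
        Polynomial.aeval (X 0 + X 1 : MvPolynomial (Fin 2) R) (expTrunc p b) ∧
      IsUnit (Polynomial.aeval (X 0 : MvPolynomial (Fin 2) R) (expTrunc p b) *
        Polynomial.aeval (X 1 : MvPolynomial (Fin 2) R) (expTrunc p b)) ∧
      (∀ i j, coeff (sgl i j) U ∈ Ideal.span {r}) ∧
      ∀ s, coeff (sgl (p ^ s) (p ^ (s + 1) - p ^ s)) U = if s = 0 then r else 0 := by
  classical
  set e := expTrunc p b with he
  set EE := Polynomial.aeval (X 0 : MvPolynomial (Fin 2) R) e *
        Polynomial.aeval (X 1 : MvPolynomial (Fin 2) R) e with hEE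
  set D := Polynomial.aeval (X 0 + X 1 : MvPolynomial (Fin 2) R) e - EE with hD
  have hEEw : EE ∈ weighted b := mul_mem (expTrunc_mem_weighted p b 0) (expTrunc_mem_weighted p b 1)
  have hbn : IsNilpotent b := ⟨p * 2, by rw [pow_mul, hb, pow_two, hr]⟩
  have h00 : sgl 0 0 = 0 := by simp [sgl]
  have hEE0 : coeff 0 EE = 1 := by
    rw [hEE, ← h00, coeff_aeval_mul, he, coeff_expTrunc, if_pos hp.out.pos]
    simp
  obtain ⟨M, hM⟩ : IsNilpotent (1 - EE) := by
    rw [MvPolynomial.isNilpotent_iff]
    intro m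
    rcases eq_or_ne m 0 with rfl | hm
    · rw [coeff_sub, hEE0, coeff_zero_one, sub_self]; exact IsNilpotent.zero
    · rw [coeff_sub, MvPolynomial.coeff_one, if_neg (Ne.symm hm), zero_sub, isNilpotent_neg_iff,
        ← sgl_self m]
      obtain ⟨c, hc⟩ := Ideal.mem_span_singleton'.1 (hEEw (m 0) (m 1))
      rw [← hc]
      refine (Commute.all _ _).isNilpotent_mul_left (hbn.pow_of_pos fun h => hm ?_)
      rw [← sgl_self m, ← h00, sgl_eq_sgl]
      omega
  set w := ∑ t ∈ range M, (1 - EE) ^ t with hw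
  have hwEE : w * EE = 1 := by
    have := geom_sum_mul_neg (1 - EE) M
    rwa [sub_sub_cancel, hM, sub_zero] at this
  have hwmem : w ∈ weighted b := sum_mem fun t _ => pow_mem (sub_mem (one_mem _) hEEw) t
  have hw0 : coeff 0 w = 1 := by
    have := congrArg (constantCoeff (R := R) (σ := Fin 2)) hwEE
    rw [map_mul, map_one] at this
    rwa [show constantCoeff EE = (1 : R) from hEE0, mul_one] at this
  have hDw : D ∈ weighted b := sub_mem (expTrunc_add_mem_weighted p b) hEEw
  have hDlow : ∀ i j, i + j < p → coeff (sgl i j) D = 0 := by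
    intro i j h
    rw [hD, coeff_sub, hEE, coeff_aeval_add, coeff_aeval_mul, he, coeff_expTrunc, coeff_expTrunc,
      coeff_expTrunc, if_pos h, if_pos (by omega), if_pos (by omega), ← mul_assoc,
      choose_mul_inv_factorial p h, pow_add]
    ring
  have hlow : ∀ i j, i + j < p → coeff (sgl i j) (D * w) = 0 := by
    intro i j h
    rw [MvPolynomial.coeff_mul]
    refine sum_eq_zero fun st hst => ?_
    rw [mem_antidiagonal] at hst
    have e0 := DFunLike.congr_fun hst 0
    have e1 := DFunLike.congr_fun hst 1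
    rw [Finsupp.add_apply, sgl_zero_apply] at e0
    rw [Finsupp.add_apply, sgl_one_apply] at e1
    rw [← sgl_self st.1, hDlow _ _ (by omega), zero_mul]
  have hmem : D * w ∈ weighted b := mul_mem hDw hwmem
  refine ⟨D * w, ?_, IsUnit.of_mul_eq_one_right _ hwEE, fun i j => ?_, fun s => ?_⟩
  · rw [add_mul, one_mul, mul_assoc, hwEE, mul_one, hD]; ring
  · rcases Nat.lt_or_ge (i + j) p with h | h
    · rw [hlow i j h]; exact zero_mem _
    · obtain ⟨c, hc⟩ := Ideal.mem_span_singleton'.1 (hmem i j)
      rw [← hc, show i + j = p + (i + j - p) by omega, pow_add, hb]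
      exact Ideal.mem_span_singleton'.2 ⟨c * b ^ (i + j - p), by ring⟩
  · rcases Nat.eq_zero_or_pos s with rfl | hs
    · rw [if_pos rfl, pow_zero, zero_add, pow_one, MvPolynomial.coeff_mul,
        sum_eq_single (sgl 1 (p - 1), 0)]
      · rw [hw0, mul_one, hD, coeff_sub, hEE, coeff_aeval_add, coeff_aeval_mul, he, coeff_expTrunc,
          coeff_expTrunc, coeff_expTrunc, if_neg (by have := hp.out.two_le; omega),
          if_pos hp.out.one_lt, if_pos (Nat.sub_lt hp.out.pos one_pos), mul_zero,
          ringInverse_factorial_pred p]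
        have : b ^ (p - 1) * b = r := by rw [← pow_succ, Nat.sub_add_cancel hp.out.one_le, hb]
        simp only [Nat.factorial_one, Nat.cast_one, Ring.inverse_one, pow_one, one_mul]
        linear_combination this
      · rintro ⟨u, v⟩ hst hne
        rw [mem_antidiagonal] at hst
        dsimp only at hst ⊢
        have e0 := DFunLike.congr_fun hst 0
        have e1 := DFunLike.congr_fun hst 1
        rw [Finsupp.add_apply, sgl_zero_apply] at e0
        rw [Finsupp.add_apply, sgl_one_apply] at e1
        have := hp.out.one_le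
        rcases Nat.lt_or_ge (u 0 + u 1) p with h | h
        · rw [← sgl_self u, hDlow _ _ h, zero_mul]
        · refine absurd ?_ hne
          have hu : u = sgl 1 (p - 1) := by
            rw [← sgl_self u, sgl_eq_sgl]; omega
          rw [Prod.mk.injEq, hu]
          refine ⟨rfl, ?_⟩
          rw [← sgl_self v, ← h00, sgl_eq_sgl]; omega
      · intro h; exact absurd (by simp [mem_antidiagonal]) h
    · rw [if_neg (by omega)]
      obtain ⟨c, hc⟩ := Ideal.mem_span_singleton'.1
        (hmem (p ^ s) (p ^ (s + 1) - p ^ s))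
      have h2 : p * 2 ≤ p ^ (s + 1) := by
        rw [pow_succ']
        exact Nat.mul_le_mul_left p (hp.out.two_le.trans (Nat.le_self_pow (by omega) p))
      have h3 : p ^ s ≤ p ^ (s + 1) := Nat.pow_le_pow_right hp.out.pos (by omega)
      rw [← hc, show p ^ s + (p ^ (s + 1) - p ^ s) = p * 2 + (p ^ (s + 1) - p * 2) by omega, pow_add,
        pow_mul, hb, pow_two, hr, zero_mul, mul_zero]

lemma exists_cobdry_expP (b r : R) (hb : b ^ p = r) (hr : r * r = 0) (k : ℕ)
    (V : MvPolynomial (Fin 2) R)
    (hV : Polynomial.aeval (X 0 + X 1 : MvPolynomial (Fin 2) R) (expP p b k) =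
        Polynomial.aeval (X 0 : MvPolynomial (Fin 2) R) (expP p b k) *
          Polynomial.aeval (X 1 : MvPolynomial (Fin 2) R) (expP p b k) * V) :
    V - 1 ∈ (Ideal.span {r}).map C ∧
      ∀ l, coeff (sgl (p ^ l) (p ^ (l + 1) - p ^ l)) (V - 1) = if l = k then r else 0 := by
  obtain ⟨U, hU, hEu, hspan, hval⟩ := exists_cobdry_expTrunc p b r hb hr
  let φ : MvPolynomial (Fin 2) R →ₐ[R] MvPolynomial (Fin 2) R :=
    aeval ![(X 0 : MvPolynomial (Fin 2) R) ^ p ^ k, X 1 ^ p ^ k]
  have hφ : ∀ t : MvPolynomial (Fin 2) R,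
      φ (Polynomial.aeval t (expTrunc p b)) = Polynomial.aeval (φ t) (expTrunc p b) := fun t =>
    (Polynomial.aeval_algHom_apply φ t _).symm
  have hV1 : V - 1 = φ U := by
    have h := congrArg φ hU
    simp only [map_mul, map_add, map_one, hφ] at h
    simp only [φ, aeval_X, Matrix.cons_val_zero, Matrix.cons_val_one, map_add] at h
    simp only [aeval_expP, add_pow_char_pow] at hV
    rw [hV, mul_comm (Polynomial.aeval _ _ * Polynomial.aeval _ _) V] at h
    have hu := hEu.map φ
    simp only [map_mul, hφ] at hu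
    simp only [φ, aeval_X, Matrix.cons_val_zero, Matrix.cons_val_one] at hu
    have h' := hu.mul_right_cancel h
    linear_combination -h'
  have hUmem : U ∈ (Ideal.span {r}).map C := MvPolynomial.mem_map_C_iff.2 fun m => by
    rw [← sgl_self m]; exact hspan _ _
  have hφC : φ.toRingHom.comp C = C := RingHom.ext fun x => by simp [φ]
  refine ⟨?_, fun l => ?_⟩
  · rw [hV1]
    have := Ideal.mem_map_of_mem φ.toRingHom hUmem
    rwa [Ideal.map_map, hφC] at this
  · rw [hV1]
    have hcoeff : ∀ F : MvPolynomial (Fin 2) R, coeff (sgl (p ^ l) (p ^ (l + 1) - p ^ l)) (φ F) =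
        if k ≤ l then coeff (sgl (p ^ (l - k)) (p ^ (l - k + 1) - p ^ (l - k))) F else 0 := by
      intro F
      induction F using MvPolynomial.induction_on' with
      | add a c ha hc => rw [map_add, coeff_add, ha, hc, coeff_add]; split_ifs <;> simp
      | monomial s x =>
        obtain ⟨i, j, rfl⟩ : ∃ i j, s = sgl i j := ⟨_, _, (sgl_self s).symm⟩
        simp only [φ, aeval_monomial_sgl, Matrix.cons_val_zero, Matrix.cons_val_one,
          MvPolynomial.algebraMap_eq, ← pow_mul, X_pow_mul_X_pow, coeff_C_mul, coeff_monomial,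
          sgl_eq_sgl]
        have hP : 0 < p ^ k := pow_pos hp.out.pos k
        rw [mul_ite, mul_one, mul_zero]
        by_cases hkl : k ≤ l
        · rw [if_pos hkl]
          refine if_congr ?_ rfl rfl
          have he : p ^ l = p ^ k * p ^ (l - k) := by rw [← pow_add]; congr 1; omega
          have he' : p ^ (l + 1) = p ^ k * p ^ (l - k + 1) := by rw [← pow_add]; congr 1; omega
          rw [he', he, ← Nat.mul_sub, Nat.mul_right_inj hP.ne', Nat.mul_right_inj hP.ne']
        · rw [if_neg hkl, if_neg]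
          rintro ⟨h1, -⟩
          have hlt : p ^ l < p ^ k := Nat.pow_lt_pow_right hp.out.one_lt (by omega)
          have := pow_pos hp.out.pos l
          rcases Nat.eq_zero_or_pos i with rfl | hi
          · simp at h1; omega
          · have := Nat.le_mul_of_pos_right (p ^ k) hi
            omega
    rw [hcoeff]
    by_cases hkl : k ≤ l
    · rw [if_pos hkl, hval]
      by_cases h : l = k
      · rw [if_pos (by omega), if_pos h]
      · rw [if_neg (by omega), if_neg h]
    · rw [if_neg hkl, if_neg (by omega)]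

end Weighted

section Step

variable (p : ℕ) [hp : Fact p.Prime] [CharP R p]

lemma mul_eq_zero_of_sq {n : ℕ} {J : Ideal R} (hJ : J * J = ⊥) {a c : MvPolynomial (Fin n) R}
    (ha : a ∈ J.map C) (hc : c ∈ J.map C) : a * c = 0 := by
  have := Ideal.mul_mem_mul ha hc
  rwa [← Ideal.map_mul, hJ, Ideal.map_bot, Ideal.mem_bot] at this

omit hp [CharP R p] in
lemma aeval_mem_map_C {m n : ℕ} {J : Ideal R} (g : Fin m → MvPolynomial (Fin n) R)
    {F : MvPolynomial (Fin m) R} (hF : F ∈ J.map C) : aeval g F ∈ J.map C := by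
  have := Ideal.mem_map_of_mem (aeval g : MvPolynomial (Fin m) R →ₐ[R] _).toRingHom hF
  rwa [Ideal.map_map, show (aeval g : MvPolynomial (Fin m) R →ₐ[R] _).toRingHom.comp C = C from
    RingHom.ext fun x => by simp] at this

lemma isCocycle_of_isMulCocycle {J : Ideal R} (hJ : J * J = ⊥) {F : MvPolynomial (Fin 2) R}
    (hF : F ∈ J.map C) (h : IsMulCocycle (1 + F)) : IsCocycle F := by
  have m1 := mul_eq_zero_of_sq hJ (aeval_mem_map_C ![(X 1 : MvPolynomial (Fin 3) R), X 2] hF)
    (aeval_mem_map_C ![(X 0 : MvPolynomial (Fin 3) R), X 1 + X 2] hF)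
  have m2 := mul_eq_zero_of_sq hJ (aeval_mem_map_C ![(X 0 + X 1 : MvPolynomial (Fin 3) R), X 2] hF)
    (aeval_mem_map_C ![(X 0 : MvPolynomial (Fin 3) R), X 1] hF)
  simp only [IsMulCocycle, map_add, map_one] at h
  simp only [IsCocycle]
  linear_combination h - m1 + m2

lemma isSymm2_of_one_add {F : MvPolynomial (Fin 2) R} (h : IsSymm2 (1 + F)) : IsSymm2 F := by
  simpa [IsSymm2] using h

lemma isUnit_expP_of_isNilpotent {b : R} (hb : IsNilpotent b) (k : ℕ) : IsUnit (expP p b k) := by
  rw [Polynomial.isUnit_iff_coeff_isUnit_isNilpotent]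
  simp only [expP, Polynomial.finsetSum_coeff, Polynomial.coeff_C_mul, Polynomial.coeff_X_pow,
    mul_ite, mul_one, mul_zero]
  refine ⟨?_, fun n hn => ?_⟩
  · rw [sum_eq_single 0]
    · simp
    · intro j _ hj
      rw [if_neg]
      exact (Nat.mul_ne_zero hj (pow_ne_zero k hp.out.ne_zero)).symm
    · intro h; simp [hp.out.pos] at h
  · refine isNilpotent_sum fun j _ => ?_
    split_ifs with h
    · refine (Commute.all _ _).isNilpotent_mul_left (hb.pow_of_pos ?_)
      rintro rfl; simp at h; exact hn h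
    · exact IsNilpotent.zero

theorem exists_cobdry_congr (hFr : Function.Surjective (frobenius R p)) (J K : Ideal R)
    (hJK : J * J ≤ K) (hJnil : J ≤ nilradical R) (hK : K ≠ ⊤) (h : MvPolynomial (Fin 2) R)
    (hs : IsSymm2 h) (hc : IsMulCocycle h)
    (hmod : h - 1 ∈ J.map C) :
    ∃ d, IsMulCobdry d ∧ MvPolynomial.map (Ideal.Quotient.mk K) d =
      MvPolynomial.map (Ideal.Quotient.mk K) h := by
  set π := Ideal.Quotient.mk K with hπ
  haveI : Nontrivial (R ⧸ K) := Ideal.Quotient.nontrivial_iff.2 hK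
  haveI : CharP (R ⧸ K) p := by
    have hp0 : (p : R ⧸ K) = 0 := by rw [← map_natCast π, CharP.cast_eq_zero, map_zero]
    exact ringChar.of_eq (((Nat.dvd_prime hp.out).1 (ringChar.dvd hp0)).resolve_left
      fun h1 => by
        have := ringChar.Nat.cast_ringChar (R := R ⧸ K)
        rw [h1, Nat.cast_one] at this
        exact one_ne_zero this)
  set J' := J.map π with hJ'
  have hsq : J' * J' = ⊥ := by
    rw [hJ', ← Ideal.map_mul, eq_bot_iff, Ideal.map_le_iff_le_comap]
    intro x hx
    rw [Ideal.mem_comap, Ideal.mem_bot, hπ, Ideal.Quotient.eq_zero_iff_mem]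
    exact hJK hx
  set F := MvPolynomial.map π h - 1 with hF
  have hFmem : F ∈ J'.map C := MvPolynomial.mem_map_C_iff.2 fun m => by
    rw [show F = MvPolynomial.map π (h - 1) by rw [map_sub, map_one], MvPolynomial.coeff_map]
    exact Ideal.mem_map_of_mem π (MvPolynomial.mem_map_C_iff.1 hmod m)
  have hcoef : ∀ m, coeff m F ∈ J' := MvPolynomial.mem_map_C_iff.1 hFmem
  have hFc : IsCocycle F := isCocycle_of_isMulCocycle hsq hFmem (by simpa [hF] using hc.map π)
  have hFs : IsSymm2 F := isSymm2_of_one_add (by simpa [hF] using hs.map π)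
  set D := F.totalDegree + 1
  have hlift : ∀ y ∈ J', ∃ x ∈ J, π x = y := fun y hy =>
    (Ideal.mem_map_iff_of_surjective π Ideal.Quotient.mk_surjective).1 hy
  choose lift hliftJ hliftπ using hlift
  -- the p-th power part
  let r : ℕ → R := fun k => lift (rVal p F k) (hcoef _)
  choose b hb using fun k => hFr (r k)
  have hbn : ∀ k, IsNilpotent (b k) := fun k => by
    obtain ⟨N, hN⟩ := mem_nilradical.1 (hJnil (hliftJ (rVal p F k) (hcoef _)))
    exact ⟨p * N, by rw [pow_mul, show b k ^ p = r k from hb k]; exact hN⟩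
  choose dk hdk using fun k => exists_cobdry (expP p (b k) k) (isUnit_expP_of_isNilpotent p (hbn k) k)
  have hdkπ : ∀ k, MvPolynomial.map π (dk k) - 1 ∈ J'.map C ∧
      ∀ l, coeff (sgl (p ^ l) (p ^ (l + 1) - p ^ l)) (MvPolynomial.map π (dk k) - 1) =
        if l = k then rVal p F k else 0 := by
    intro k
    have hrJ : rVal p F k ∈ J' := hcoef _
    have e := congrArg (MvPolynomial.map π) (hdk k)
    simp only [map_mul, map_aeval_poly, map_expP, map_add, MvPolynomial.map_X] at e
    have := exists_cobdry_expP p (π (b k)) (rVal p F k)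
      (by rw [← map_pow, show b k ^ p = r k from hb k]; exact hliftπ _ _)
      (by have := Ideal.mul_mem_mul hrJ hrJ; rwa [hsq, Ideal.mem_bot] at this) k _ e
    exact ⟨Ideal.map_mono ((Ideal.span_singleton_le_iff_mem _).2 hrJ) this.1, this.2⟩
  let Uk : ℕ → MvPolynomial (Fin 2) (R ⧸ K) := fun k => MvPolynomial.map π (dk k) - 1
  have hprod : ∀ s : Finset ℕ, MvPolynomial.map π (∏ k ∈ s, dk k) = 1 + ∑ k ∈ s, Uk k ∧
      ∑ k ∈ s, Uk k ∈ J'.map C := by
    intro s
    induction s using Finset.induction with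
    | empty => simp
    | insert a s ha ih =>
      obtain ⟨ih1, ih2⟩ := ih
      refine ⟨?_, ?_⟩
      · rw [prod_insert ha, sum_insert ha, map_mul, ih1]
        have m := mul_eq_zero_of_sq hsq (hdkπ a).1 ih2
        linear_combination m
      · rw [sum_insert ha]; exact add_mem (hdkπ a).1 ih2
  obtain ⟨hp1, hp2⟩ := hprod (range D)
  -- the difference is a cocycle with vanishing invariants
  set F1 := F - ∑ k ∈ range D, Uk k with hF1
  have hUc : ∀ k, IsCocycle (Uk k) ∧ IsSymm2 (Uk k) := fun k => by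
    obtain ⟨-, hS, hC⟩ := IsMulCobdry.properties ⟨_, isUnit_expP_of_isNilpotent p (hbn k) k, hdk k⟩
    exact ⟨isCocycle_of_isMulCocycle hsq (hdkπ k).1 (by simpa [Uk] using hC.map π),
      isSymm2_of_one_add (by simpa [Uk] using hS.map π)⟩
  have hvanish : ∀ i j, D ≤ i + j → coeff (sgl i j) F = 0 := fun i j hij => by
    by_contra hne
    have h1 := MvPolynomial.le_totalDegree (mem_support_iff.2 hne)
    have h2 : (sgl i j).sum (fun _ e => e) = i + j := by
      rw [Finsupp.sum_fintype _ _ (fun _ => rfl), Fin.sum_univ_two, sgl_zero_apply, sgl_one_apply]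
    omega
  have hr1 : ∀ l, rVal p F1 l = 0 := by
    intro l
    rw [hF1, rVal, coeff_sub, coeff_sum]
    simp only [Uk, fun k => (hdkπ k).2 l, Finset.sum_ite_eq, mem_range]
    split_ifs with hl
    · exact sub_self _
    · rw [sub_zero]
      refine hvanish _ _ ?_
      have h1 : l < p ^ (l + 1) := (Nat.lt_succ_self l).trans (Nat.lt_pow_self hp.out.one_lt)
      have h2 : p ^ l ≤ p ^ (l + 1) := Nat.pow_le_pow_right hp.out.pos (by omega)
      omega
  have hsum : IsCocycle (∑ k ∈ range D, Uk k) ∧ IsSymm2 (∑ k ∈ range D, Uk k) :=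
    ⟨Finset.sum_induction _ IsCocycle (fun _ _ => IsCocycle.add) IsCocycle.zero fun k _ => (hUc k).1, by
      simp only [IsSymm2, map_sum]; exact sum_congr rfl fun k _ => (hUc k).2⟩
  have hlz := lazard p F1 (by simp only [IsSymm2, hF1, map_sub] ; rw [hFs, hsum.2])
    (hFc.sub hsum.1) (F1.totalDegree + 1) (Nat.lt_succ_self _)
  simp only [hr1, map_zero, zero_mul, sum_const_zero, add_zero] at hlz
  set D1 := F1.totalDegree + 1
  have hcoef1 : ∀ m, coeff m F1 ∈ J' := MvPolynomial.mem_map_C_iff.1 (sub_mem hFmem hp2)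
  -- the coboundary part
  set G : Polynomial (R ⧸ K) := ∑ n ∈ range D1, Polynomial.C (gVal p F1 n) * Polynomial.X ^ n with hG
  have hgJ : ∀ n, gVal p F1 n ∈ J' := fun n => by
    rw [gVal]
    split_ifs
    · exact neg_mem (hcoef1 _)
    · exact zero_mem _
    · exact Ideal.mul_mem_left _ _ (hcoef1 _)
  set G₀ : Polynomial R := ∑ n ∈ range D1, Polynomial.C (lift (gVal p F1 n) (hgJ n)) * Polynomial.X ^ n
    with hG₀
  have hG₀π : G₀.map π = G := by
    simp [hG₀, hG, Polynomial.map_sum, hliftπ]
  have hG₀n : IsNilpotent G₀ := by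
    refine isNilpotent_sum fun n _ => (Commute.all _ _).isNilpotent_mul_right ?_
    exact (mem_nilradical.1 (hJnil (hliftJ _ _))).map Polynomial.C
  obtain ⟨d2, hd2⟩ := exists_cobdry (1 + G₀) hG₀n.isUnit_one_add
  refine ⟨d2 * ∏ k ∈ range D, dk k, IsMulCobdry.mul ⟨_, hG₀n.isUnit_one_add, hd2⟩
    (Finset.prod_induction _ IsMulCobdry (fun _ _ => IsMulCobdry.mul) isMulCobdry_one fun k _ =>
      ⟨_, isUnit_expP_of_isNilpotent p (hbn k) k, hdk k⟩), ?_⟩
  have hGmem : ∀ t : MvPolynomial (Fin 2) (R ⧸ K), Polynomial.aeval t G ∈ J'.map C := fun t => by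
    rw [hG, map_sum]
    refine sum_mem fun n _ => ?_
    rw [map_mul, Polynomial.aeval_C, MvPolynomial.algebraMap_eq]
    exact Ideal.mul_mem_right _ _ (Ideal.mem_map_of_mem C (hgJ n))
  have hcobmem : cobdry G ∈ J'.map C := sub_mem (sub_mem (hGmem _) (hGmem _)) (hGmem _)
  have hd2π : MvPolynomial.map π d2 = 1 + cobdry G := by
    have e := congrArg (MvPolynomial.map π) hd2
    simp only [map_mul, map_aeval_poly, map_add, MvPolynomial.map_X, Polynomial.map_add,
      Polynomial.map_one, hG₀π, map_one] at e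
    have hu : IsUnit ((1 + Polynomial.aeval (X 0 : MvPolynomial (Fin 2) (R ⧸ K)) G) *
        (1 + Polynomial.aeval (X 1 : MvPolynomial (Fin 2) (R ⧸ K)) G)) := by
      have hn : IsNilpotent G := hG₀π ▸ hG₀n.map (Polynomial.mapRingHom π)
      exact ((hn.map (Polynomial.aeval _)).isUnit_one_add).mul ((hn.map (Polynomial.aeval _)).isUnit_one_add)
    refine hu.mul_left_cancel ?_
    rw [← e]
    have m1 := mul_eq_zero_of_sq hsq (hGmem (X 0)) (hGmem (X 1))
    have m2 := mul_eq_zero_of_sq hsq (hGmem (X 0)) hcobmem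
    have m3 := mul_eq_zero_of_sq hsq (hGmem (X 1)) hcobmem
    rw [show Polynomial.aeval (X 0 + X 1 : MvPolynomial (Fin 2) (R ⧸ K)) G =
      cobdry G + Polynomial.aeval (X 0 : MvPolynomial (Fin 2) (R ⧸ K)) G +
        Polynomial.aeval (X 1 : MvPolynomial (Fin 2) (R ⧸ K)) G by rw [cobdry]; ring]
    linear_combination -(1 + cobdry G) * m1 - m2 - m3
  rw [map_mul, hd2π, hp1]
  have m := mul_eq_zero_of_sq hsq hcobmem hp2
  rw [show MvPolynomial.map π h = 1 + F by rw [hF]; ring]
  have hkey : F = cobdry G + ∑ k ∈ range D, Uk k := by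
    rw [hG, ← hlz, hF1]; ring
  linear_combination m - hkey

theorem exists_splitting (hFr : Function.Surjective (frobenius R p)) (h : MvPolynomial (Fin 2) R)
    (hu : IsUnit h) (h0 : aeval ![(X 0 : MvPolynomial (Fin 2) R), 0] h = 1) (hs : IsSymm2 h)
    (hc : IsMulCocycle h) : IsMulCobdry h := by
  classical
  obtain ⟨-, hnil⟩ := MvPolynomial.isUnit_iff.1 hu
  have hcc : ∀ g : MvPolynomial (Fin 2) R,
      constantCoeff (aeval ![(X 0 : MvPolynomial (Fin 2) R), 0] g) = constantCoeff g := by
    intro g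
    induction g using MvPolynomial.induction_on with
    | C r => simp
    | add a b ha hb => simp [ha, hb]
    | mul_X a i ha =>
      rw [map_mul, map_mul, map_mul, aeval_X, constantCoeff_X, mul_zero]
      fin_cases i <;> simp
  have hconst : coeff 0 h = 1 := by
    have := hcc h
    rw [h0, map_one] at this
    exact this.symm
  set I : Ideal R := Ideal.span ((h.support.erase 0).image fun m => coeff m h : Finset R) with hI
  have hInil : I ≤ nilradical R := by
    rw [hI, Ideal.span_le]
    intro x hx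
    simp only [Finset.coe_image, Set.mem_image, Finset.mem_coe, Finset.mem_erase] at hx
    obtain ⟨m, ⟨hm, -⟩, rfl⟩ := hx
    exact mem_nilradical.2 (hnil m hm)
  obtain ⟨N, hN⟩ := Ideal.exists_pow_le_of_le_radical_of_fg hInil ⟨_, hI.symm⟩
  have hmem : h - 1 ∈ (I ^ 1).map C := by
    rw [pow_one]
    refine MvPolynomial.mem_map_C_iff.2 fun m => ?_
    rcases eq_or_ne m 0 with rfl | hm
    · rw [coeff_sub, hconst, coeff_zero_one, sub_self]; exact zero_mem _
    · rw [coeff_sub, MvPolynomial.coeff_one, if_neg (Ne.symm hm), sub_zero]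
      by_cases hz : coeff m h = 0
      · rw [hz]; exact zero_mem _
      · exact Ideal.subset_span (Finset.mem_coe.2 (Finset.mem_image.2
          ⟨m, Finset.mem_erase.2 ⟨hm, mem_support_iff.2 hz⟩, rfl⟩))
  suffices main : ∀ t m, 1 ≤ m → N ≤ m + t → ∀ g : MvPolynomial (Fin 2) R, IsSymm2 g →
      IsMulCocycle g → g - 1 ∈ (I ^ m).map C → IsMulCobdry g from
    main N 1 le_rfl (by omega) h hs hc hmem
  intro t
  induction t with
  | zero =>
    intro m _ hNm g _ _ hg
    have : (I ^ m).map C = (⊥ : Ideal (MvPolynomial (Fin 2) R)) := by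
      rw [le_bot_iff.1 ((Ideal.pow_le_pow_right (by omega : N ≤ m)).trans hN), Ideal.map_bot]
    rw [this, Ideal.mem_bot, sub_eq_zero] at hg
    rw [hg]; exact isMulCobdry_one
  | succ t ih =>
    intro m hm hNm g hgs hgc hg
    have hle : I ^ m ≤ nilradical R := (Ideal.pow_le_self (by omega)).trans hInil
    have hK : I ^ (m + 1) ≠ ⊤ := fun hK => by
      have : Nontrivial R := CharP.nontrivial_of_char_ne_one hp.out.ne_one
      have h1 : (1 : R) ∈ nilradical R := hle (Ideal.pow_le_pow_right (Nat.le_succ m) (hK ▸ trivial))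
      obtain ⟨n, hn⟩ := mem_nilradical.1 h1
      simp at hn
    obtain ⟨d, hd, hdg⟩ := exists_cobdry_congr p hFr (I ^ m) (I ^ (m + 1))
      (by rw [← pow_add]; exact Ideal.pow_le_pow_right (by omega)) hle hK g hgs hgc hg
    obtain ⟨hdu, hds, hdc⟩ := hd.properties
    obtain ⟨d', hd'⟩ := hdu.exists_right_inv
    have hg1 : g * d' - 1 ∈ (I ^ (m + 1)).map C := MvPolynomial.mem_map_C_iff.2 fun s => by
      rw [← Ideal.Quotient.eq_zero_iff_mem, ← MvPolynomial.coeff_map, map_sub, map_one, map_mul,
        ← hdg, ← map_mul, hd', map_one, sub_self, coeff_zero]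
    have := hd.mul (ih (m + 1) (by omega) (by omega) _ (hgs.mul (hds.inv hd')) (hgc.mul (hdc.inv hd')) hg1)
    rwa [mul_left_comm, hd', mul_one] at this

end Step

end Groth.Agent.GaDual
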